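import Mathlib

/-!
Self-reciprocal quartics over a finite field, and the matrices they annihilate.
-/

set_option autoImplicit false
set_option linter.style.haveILetI false
set_option linter.unusedSectionVars false

namespace CfsgLib.Spectrum.PSpFour

open Polynomial

/-- The greatest common divisor entering the torus orders. -/
def cen (q : ℕ) : ℕ := Nat.gcd 2 (q - 1)

/-- The larger torus order. -/
def torP (q : ℕ) : ℕ := (q ^ 2 + 1) / cen q

/-- The smaller torus order. -/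
def torM (q : ℕ) : ℕ := (q ^ 2 - 1) / cen q

variable {K : Type*} [Field K]

/-- The monic self-reciprocal quadratic. -/
noncomputable def quad (s : K) : K[X] := X ^ 2 + C s * X + 1

theorem quad_eq {x : K} (hx : x ≠ 0) : quad (-(x + x⁻¹)) = (X - C x) * (X - C x⁻¹) := by
  have h : (X - C x) * (X - C x⁻¹) = X ^ 2 + C (-(x + x⁻¹)) * X + C (x * x⁻¹) := by
    simp only [map_neg, map_add, map_mul]; ring
  rw [h, mul_inv_cancel₀ hx, map_one]
  rfl

theorem exists_root [IsAlgClosed K] (s : K) : ∃ x : K, x ≠ 0 ∧ s = -(x + x⁻¹) := by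
  have hd : (quad s).degree ≠ 0 := by
    rw [show quad s = C (1 : K) * X ^ 2 + C s * X + C 1 by rw [map_one, one_mul]; rfl,
      degree_quadratic one_ne_zero]
    decide
  obtain ⟨x, hx⟩ := IsAlgClosed.exists_root (quad s) hd
  have hx' : x ^ 2 + s * x + 1 = 0 := by simpa [quad] using hx
  have hx0 : x ≠ 0 := fun h => by simp [h] at hx'
  refine ⟨x, hx0, mul_right_cancel₀ hx0 ?_⟩
  rw [neg_mul, add_mul, inv_mul_cancel₀ hx0]
  linear_combination hx'

theorem quad_dvd {x e : K} (hx : x ≠ 0) (hne : x ≠ x⁻¹) {n : ℕ} (h1 : x ^ n = e) (h2 : x⁻¹ ^ n = e) :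
    quad (-(x + x⁻¹)) ∣ X ^ n - C e := by
  rw [quad_eq hx]
  refine (isCoprime_X_sub_C_of_isUnit_sub ?_).mul_dvd ?_ ?_
  · exact (sub_ne_zero.mpr hne).isUnit
  · rw [dvd_iff_isRoot]; simp [h1]
  · rw [dvd_iff_isRoot]; simp [← inv_pow, h2]

theorem quad_coprime {s t : K} (h : s ≠ t) : IsCoprime (quad s) (quad t) := by
  have hst : s - t ≠ 0 := sub_ne_zero.mpr h
  have hX : IsCoprime (quad s) X := ⟨1, -(X + C s), by rw [quad]; ring⟩
  have hu : IsCoprime (quad s) (C (t - s) * X) :=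
    IsCoprime.mul_right (isCoprime_one_right.of_isCoprime_of_dvd_right
      (isUnit_C.mpr (sub_ne_zero.mpr h.symm).isUnit).dvd) hX
  have := hu.add_mul_left_right 1
  rwa [mul_one, show C (t - s) * X + quad s = quad t by rw [quad, quad, map_sub]; ring] at this

variable (p k : ℕ) [hp : Fact p.Prime] [CharP K p]

theorem frob_add (x y : K) : (x + y) ^ p ^ k = x ^ p ^ k + y ^ p ^ k := add_pow_char_pow x y p k

theorem frob_neg (x : K) : (-x) ^ p ^ k = -(x ^ p ^ k) := by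
  refine eq_neg_of_add_eq_zero_left ?_
  rw [← frob_add p k, neg_add_cancel, zero_pow (pow_ne_zero k hp.out.ne_zero)]

/-- The inverse pair through a Frobenius-twisted root. -/
theorem twist_cases {x y : K} (hx : x ≠ 0) (hy : y ≠ 0) (h : (-(x + x⁻¹)) ^ p ^ k = -(y + y⁻¹)) :
    x ^ p ^ k = y ∨ x ^ p ^ k = y⁻¹ := by
  rw [frob_neg p k, frob_add p k, neg_inj, inv_pow] at h
  set z := x ^ p ^ k
  have hz : z ≠ 0 := pow_ne_zero _ hx
  have h' : (z - y) * (z - y⁻¹) = 0 := by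
    field_simp at h ⊢
    linear_combination h
  rcases mul_eq_zero.mp h' with e | e
  · exact Or.inl (sub_eq_zero.mp e)
  · exact Or.inr (sub_eq_zero.mp e)

theorem fixed_cases {x : K} (hx : x ≠ 0) (h : (-(x + x⁻¹)) ^ p ^ k = -(x + x⁻¹)) :
    x ^ (p ^ k - 1) = 1 ∨ x ^ (p ^ k + 1) = 1 := by
  have hq : 1 ≤ p ^ k := Nat.one_le_pow _ _ hp.out.pos
  rcases twist_cases p k hx hx h with e | e
  · refine Or.inl (mul_right_cancel₀ hx ?_)
    rw [one_mul, ← pow_succ, Nat.sub_add_cancel hq, e]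
  · exact Or.inr (by rw [pow_succ, e, inv_mul_cancel₀ hx])

/-- The torus order `m` kills `-1`. -/
theorem neg_one_pow_torus {m : ℕ} (hm : m = p ^ k - 1 ∨ m = p ^ k + 1) (hk : k ≠ 0) : (-1 : K) ^ m = 1 := by
  rcases hp.out.eq_two_or_odd' with h2 | h2
  · subst h2
    rw [CharTwo.neg_eq, one_pow]
  · have hq : Odd (p ^ k) := h2.pow
    refine Even.neg_one_pow ?_
    rcases hm with rfl | rfl
    · exact Nat.Odd.sub_odd hq odd_one
    · exact hq.add_one

theorem quad_degenerate {e : K} (he : e * e = 1) : quad (-(e + e⁻¹)) = (X - C e) ^ 2 := by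
  have he0 : e ≠ 0 := fun h => by simp [h] at he
  rw [quad_eq he0, inv_eq_of_mul_eq_one_right he, pow_two]

/-- A fixed coefficient gives a repeated `±1` or a divisor of `X ^ m - 1`. -/
theorem quad_cases [IsAlgClosed K] (hk : k ≠ 0) {s : K} (hs : s ^ p ^ k = s) :
    (∃ e : K, e * e = 1 ∧ quad s = (X - C e) ^ 2) ∨
      ∃ m, (m = p ^ k - 1 ∨ m = p ^ k + 1) ∧ quad s ∣ X ^ m - 1 := by
  obtain ⟨x, hx, rfl⟩ := exists_root s
  by_cases hne : x = x⁻¹
  · have he : x * x = 1 := by nth_rw 2 [hne]; exact mul_inv_cancel₀ hx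
    exact Or.inl ⟨x, he, quad_degenerate he⟩
  · refine Or.inr ?_
    rcases fixed_cases p k hx hs with h | h
    · exact ⟨_, Or.inl rfl, by rw [← map_one C]; exact quad_dvd hx hne h (by rw [inv_pow, h, inv_one])⟩
    · exact ⟨_, Or.inr rfl, by rw [← map_one C]; exact quad_dvd hx hne h (by rw [inv_pow, h, inv_one])⟩

theorem dvd_pow_sub_one (x : K[X]) (m c : ℕ) : x ^ m - 1 ∣ x ^ (m * c) - 1 := by
  rw [pow_mul]
  exact sub_one_dvd_pow_sub_one _ c

theorem sq_dvd {e : K} {m : ℕ} (h : e ^ m = 1) : (X - C e) ^ 2 ∣ (X ^ m - 1) ^ 2 :=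
  pow_dvd_pow_of_dvd (by rw [dvd_iff_isRoot]; simp [h]) 2

theorem cen_torus (hk : k ≠ 0) : (p = 2 ∧ cen (p ^ k) = 1) ∨ (Odd (p ^ k) ∧ cen (p ^ k) = 2) := by
  rcases hp.out.eq_two_or_odd' with h | h
  · subst h
    refine Or.inl ⟨rfl, ?_⟩
    have he : Even (2 ^ k) := even_two.pow_of_ne_zero hk
    have h2 : 2 ≤ 2 ^ k := Nat.le_self_pow hk 2
    have hd : ¬ 2 ∣ 2 ^ k - 1 := by obtain ⟨c, hc⟩ := he; omega
    exact (Nat.prime_two.coprime_iff_not_dvd.mpr hd)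
  · refine Or.inr ⟨h.pow, ?_⟩
    have h2 : 2 ∣ p ^ k - 1 := by obtain ⟨c, hc⟩ := h.pow (n := k); omega
    exact Nat.gcd_eq_left h2

theorem two_le_q (hk : k ≠ 0) : 2 ≤ p ^ k := hp.out.two_le.trans (Nat.le_self_pow hk p)

theorem torus_dvd_torM (hk : k ≠ 0) {m : ℕ} (hm : m = p ^ k - 1 ∨ m = p ^ k + 1) : m ∣ torM (p ^ k) := by
  set q := p ^ k
  have hq : q ^ 2 - 1 = (q + 1) * (q - 1) := by rw [← Nat.sq_sub_sq q 1, one_pow]
  rw [torM, hq]
  rcases cen_torus p k hk with ⟨-, h⟩ | ⟨ho, h⟩ <;> rw [h]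
  · rw [Nat.div_one]
    rcases hm with rfl | rfl
    · exact dvd_mul_left _ _
    · exact dvd_mul_right _ _
  · obtain ⟨c, hc⟩ := ho
    rcases hm with rfl | rfl
    · rw [Nat.mul_div_right_comm (by omega) (q - 1)]; exact dvd_mul_left _ _
    · rw [Nat.mul_div_assoc _ (by omega)]; exact dvd_mul_right _ _

/-- Eigenvalues not fixed by the field. -/
theorem pow_torus_of_twist {x y : K} (hk : k ≠ 0) (h1 : x ^ p ^ k = y ∨ x ^ p ^ k = y⁻¹)
    (h2 : y ^ p ^ k = x ∨ y ^ p ^ k = x⁻¹) (hx : x ≠ 0) :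
    ∃ n, (n = torP (p ^ k) ∨ n = torM (p ^ k)) ∧ ∃ e : K, e * e = 1 ∧
      x ^ n = e ∧ x⁻¹ ^ n = e ∧ y ^ n = e ∧ y⁻¹ ^ n = e := by
  set q := p ^ k with hq
  have hqq : x ^ (q ^ 2) = x ∨ x ^ (q ^ 2) = x⁻¹ := by
    rw [pow_two, pow_mul]
    rcases h1 with a | a <;> rcases h2 with b | b <;> simp only [a, inv_pow, b, inv_inv, true_or, or_true]
  have hq2 : 1 ≤ q ^ 2 := Nat.one_le_pow _ _ (pow_pos hp.out.pos k)
  obtain ⟨N, hN, hxN⟩ : ∃ N, (N = q ^ 2 + 1 ∨ N = q ^ 2 - 1) ∧ x ^ N = 1 := by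
    rcases hqq with e | e
    · exact ⟨_, Or.inr rfl, mul_right_cancel₀ hx (by rw [one_mul, ← pow_succ, Nat.sub_add_cancel hq2, e])⟩
    · exact ⟨_, Or.inl rfl, by rw [pow_succ, e, inv_mul_cancel₀ hx]⟩
  refine ⟨N / cen q, ?_, x ^ (N / cen q), ?_⟩
  · rcases hN with rfl | rfl
    · exact Or.inl rfl
    · exact Or.inr rfl
  set e := x ^ (N / cen q) with he
  have hee : e * e = 1 ∧ e ^ q = e := by
    rcases cen_torus p k hk with ⟨-, hc⟩ | ⟨ho, hc⟩
    · have : e = 1 := by rw [he, hc, Nat.div_one, hxN]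
      rw [this, mul_one, one_pow]; exact ⟨rfl, rfl⟩
    · rw [← hq] at hc ho
      have h2N : 2 ∣ N := by
        have := (ho.mul ho)
        obtain ⟨c, hc'⟩ := this
        rcases hN with rfl | rfl <;> rw [pow_two] <;> omega
      have h1' : e * e = 1 := by
        rw [he, hc, ← pow_add, ← two_mul, Nat.mul_div_cancel' h2N, hxN]
      refine ⟨h1', ?_⟩
      obtain ⟨c, hc'⟩ := ho
      rw [hc', pow_succ, pow_mul, pow_two, h1', one_pow, one_mul]
  have hei : e⁻¹ = e := inv_eq_of_mul_eq_one_right hee.1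
  refine ⟨hee.1, rfl, by rw [inv_pow, ← he, hei], ?_⟩
  rcases h1 with e1 | e1
  · have hy : y ^ (N / cen q) = e := by rw [← e1, ← pow_mul, mul_comm, pow_mul, ← he, hee.2]
    exact ⟨hy, by rw [inv_pow, hy, hei]⟩
  · have hy : y⁻¹ ^ (N / cen q) = e := by rw [← e1, ← pow_mul, mul_comm, pow_mul, ← he, hee.2]
    exact ⟨by rw [← inv_inv y, inv_pow, hy, hei], hy⟩

/-- Products of two conjugate or fixed quadratics. -/
theorem quartic_cases [IsAlgClosed K] (hk : k ≠ 0) {s t : K}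
    (h : (s ^ p ^ k = s ∧ t ^ p ^ k = t) ∨ (s ^ p ^ k = t ∧ t ^ p ^ k = s ∧ s ≠ t)) :
    (∃ e : K, e * e = 1 ∧ quad s * quad t = (X - C e) ^ 4) ∨
      (∃ m, (m = p ^ k - 1 ∨ m = p ^ k + 1) ∧ quad s * quad t ∣ (X ^ m - 1) ^ 2) ∨
      ∃ n, (n = torP (p ^ k) ∨ n = torM (p ^ k)) ∧ ∃ e : K, e * e = 1 ∧ quad s * quad t ∣ X ^ n - C e := by
  have hsq : ∀ {e : K} {m : ℕ}, e * e = 1 → (m = p ^ k - 1 ∨ m = p ^ k + 1) → e ^ m = 1 := by
    intro e m he hm
    rcases mul_self_eq_one_iff.mp he with rfl | rfl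
    · exact one_pow m
    · exact neg_one_pow_torus p k hm hk
  rcases h with ⟨hs, ht⟩ | ⟨hs, ht, hst⟩
  · by_cases hst : s = t
    · subst hst
      rcases quad_cases p k hk hs with ⟨e, he, hq⟩ | ⟨m, hm, hd⟩
      · exact Or.inl ⟨e, he, by rw [hq, ← pow_add]⟩
      · exact Or.inr (Or.inl ⟨m, hm, by rw [pow_two]; exact mul_dvd_mul hd hd⟩)
    · have hco := quad_coprime hst
      rcases quad_cases p k hk hs with ⟨e, he, hq⟩ | ⟨m, hm, hd⟩ <;>
        rcases quad_cases p k hk ht with ⟨f, hf, hq'⟩ | ⟨m', hm', hd'⟩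
      · exact Or.inr (Or.inl ⟨p ^ k - 1, Or.inl rfl,
          hco.mul_dvd (hq ▸ sq_dvd (hsq he (Or.inl rfl))) (hq' ▸ sq_dvd (hsq hf (Or.inl rfl)))⟩)
      · exact Or.inr (Or.inl ⟨m', hm', hco.mul_dvd (hq ▸ sq_dvd (hsq he hm')) (hd'.trans (dvd_pow_self _ two_ne_zero))⟩)
      · exact Or.inr (Or.inl ⟨m, hm, hco.mul_dvd (hd.trans (dvd_pow_self _ two_ne_zero)) (hq' ▸ sq_dvd (hsq hf hm))⟩)
      · refine Or.inr (Or.inr ⟨torM (p ^ k), Or.inr rfl, 1, one_mul 1, ?_⟩)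
        rw [map_one]
        obtain ⟨c, hc⟩ := torus_dvd_torM p k hk hm
        obtain ⟨c', hc'⟩ := torus_dvd_torM p k hk hm'
        exact hco.mul_dvd (hd.trans (hc ▸ dvd_pow_sub_one X m c))
          (hd'.trans (hc' ▸ dvd_pow_sub_one X m' c'))
  · obtain ⟨x, hx, hsx⟩ := exists_root s
    obtain ⟨y, hy, hty⟩ := exists_root t
    have h1 := twist_cases p k hx hy (by rw [← hsx, ← hty]; exact hs)
    have h2 := twist_cases p k hy hx (by rw [← hsx, ← hty]; exact ht)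
    obtain ⟨n, hn, e, he, a1, a2, a3, a4⟩ := pow_torus_of_twist p k hk h1 h2 hx
    have hnd : ∀ z : K, z ≠ 0 → (-(z + z⁻¹)) ^ p ^ k ≠ -(z + z⁻¹) → z ≠ z⁻¹ := by
      intro z hz hfix heq
      apply hfix
      have : z * z = 1 := by nth_rw 2 [heq]; exact mul_inv_cancel₀ hz
      rcases mul_self_eq_one_iff.mp this with rfl | rfl <;>
        simp only [inv_one, inv_neg, frob_neg p k, frob_add p k, one_pow]
    refine Or.inr (Or.inr ⟨n, hn, e, he, (quad_coprime hst).mul_dvd ?_ ?_⟩)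
    · rw [hsx]
      exact quad_dvd hx (hnd x hx (by rw [← hsx, hs]; exact Ne.symm hst)) a1 a2
    · rw [hty]
      exact quad_dvd hy (hnd y hy (by rw [← hty, ht]; exact hst)) a3 a4

/-- Consequences for a matrix annihilated by the quartic. -/
theorem matrix_cases [IsAlgClosed K] (hk : k ≠ 0) {ι : Type*} [Fintype ι] [DecidableEq ι] [Nonempty ι]
    (A : Matrix ι ι K) {s t : K}
    (h : (s ^ p ^ k = s ∧ t ^ p ^ k = t) ∨ (s ^ p ^ k = t ∧ t ^ p ^ k = s ∧ s ≠ t))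
    (hA : aeval A (quad s * quad t) = 0) :
    (∃ e : K, e * e = 1 ∧ ∀ j, 4 ≤ p ^ j → A ^ p ^ j = e • 1) ∨
      (∃ m, (m = p ^ k - 1 ∨ m = p ^ k + 1) ∧ A ^ (p * m) = 1) ∨
      ∃ n, (n = torP (p ^ k) ∨ n = torM (p ^ k)) ∧ ∃ e : K, e * e = 1 ∧ A ^ n = e • 1 := by
  haveI : CharP (Matrix ι ι K) p := inferInstance
  have kill : ∀ P : K[X], quad s * quad t ∣ P → aeval A P = 0 := by
    rintro P ⟨R, rfl⟩
    rw [map_mul, hA, zero_mul]
  have hC : ∀ e : K, aeval A (C e) = e • (1 : Matrix ι ι K) := fun e => by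
    rw [aeval_C, Algebra.algebraMap_eq_smul_one]
  rcases quartic_cases p k hk h with ⟨e, he, hq⟩ | ⟨m, hm, hd⟩ | ⟨n, hn, e, he, hd⟩
  · refine Or.inl ⟨e, he, fun j hj => ?_⟩
    have h4 : (A - e • 1) ^ 4 = 0 := by
      have := kill _ hq.dvd
      rwa [map_pow, map_sub, aeval_X, hC] at this
    have hz : (A - e • 1) ^ p ^ j = 0 := by
      rw [← Nat.add_sub_cancel' hj, pow_add, h4, zero_mul]
    rw [sub_pow_char_pow_of_commute p j ((Commute.one_right A).smul_right e), sub_eq_zero,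
      _root_.smul_pow, one_pow] at hz
    rw [hz]
    congr 1
    rcases mul_self_eq_one_iff.mp he with rfl | rfl
    · exact one_pow _
    · rw [frob_neg p j, one_pow]
  · refine Or.inr (Or.inl ⟨m, hm, ?_⟩)
    have h2 := kill _ hd
    rw [map_pow, map_sub, map_pow, aeval_X, map_one] at h2
    have hz : (A ^ m - 1) ^ p = 0 := by
      rw [← Nat.add_sub_cancel' hp.out.two_le, pow_add, h2, zero_mul]
    rw [sub_pow_char_of_commute p (Commute.one_right _), sub_eq_zero, one_pow] at hz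
    rw [mul_comm, pow_mul]
    exact hz
  · refine Or.inr (Or.inr ⟨n, hn, e, he, ?_⟩)
    have h2 := kill _ hd
    rwa [map_sub, map_pow, aeval_X, hC, sub_eq_zero] at h2

end CfsgLib.Spectrum.PSpFour
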