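import Cfsg.Prelude.Def_Classical
import Cfsg.Agent.Lib.Classical.SympCompanion
import Cfsg.Agent.Lib.SL2.Conj
import Cfsg.Agent.Lib.Spectrum.PSpFour.Poly

/-!
Matrices over a finite field with a prescribed eigenvalue in an extension.
-/

set_option autoImplicit false
set_option linter.unusedSectionVars false
set_option linter.style.haveILetI false
set_option linter.style.longLine false

namespace CfsgLib.Spectrum.PSpFour

open Matrix Polynomial

variable {F L : Type*} [Field F] [Field L]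

theorem exists_orderOf [IsAlgClosed L] (N : ℕ) (h : (N : L) ≠ 0) : ∃ x : L, orderOf x = N := by
  haveI : NeZero (N : L) := ⟨h⟩
  have hN : 0 < N := Nat.pos_of_ne_zero fun e => h (by rw [e, Nat.cast_zero])
  obtain ⟨x, hx⟩ := IsAlgClosed.exists_root (cyclotomic N L) (degree_cyclotomic_pos N L hN).ne'
  exact ⟨x, (isRoot_cyclotomic_iff.mp hx).eq_orderOf.symm⟩

theorem mem_range_of_fixed [Fintype F] (φ : F →+* L) {z : L} (h : z ^ Fintype.card F = z) : ∃ a, φ a = z := by
  classical
  have hne : (X ^ Fintype.card F - X : L[X]) ≠ 0 := FiniteField.X_pow_card_sub_X_ne_zero L Fintype.one_lt_card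
  have hsub : Finset.univ.image φ ⊆ (X ^ Fintype.card F - X : L[X]).roots.toFinset := by
    intro w hw
    obtain ⟨a, -, rfl⟩ := Finset.mem_image.mp hw
    rw [Multiset.mem_toFinset, mem_roots hne]
    simp [IsRoot.def, ← map_pow, FiniteField.pow_card]
  have hcard : (X ^ Fintype.card F - X : L[X]).roots.toFinset.card ≤ (Finset.univ.image φ).card := by
    rw [Finset.card_image_of_injective _ φ.injective, Finset.card_univ]
    refine ((Multiset.toFinset_card_le _).trans (card_roots' _)).trans ?_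
    rw [FiniteField.X_pow_card_sub_X_natDegree_eq L Fintype.one_lt_card]
  have hz : z ∈ Finset.univ.image φ := by
    rw [Finset.eq_of_subset_of_card_le hsub hcard, Multiset.mem_toFinset, mem_roots hne]
    simp [IsRoot.def, h]
  obtain ⟨a, -, ha⟩ := Finset.mem_image.mp hz
  exact ⟨a, ha⟩

/-- An eigenvalue of a matrix with scalar power. -/
theorem eigen_pow {ι : Type*} [Fintype ι] [DecidableEq ι] (φ : F →+* L) (A : Matrix ι ι F) {x : L}
    (hx : (A.charpoly.map φ).IsRoot x) {n : ℕ} {e : F} (h : A ^ n = e • 1) : x ^ n = φ e := by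
  rw [IsRoot.def, ← Matrix.charpoly_map, Matrix.eval_charpoly] at hx
  obtain ⟨v, hv, hv0⟩ := Matrix.exists_mulVec_eq_zero_iff.mpr hx
  rw [Matrix.sub_mulVec, sub_eq_zero, scalar_apply, ← smul_one_eq_diagonal, Matrix.smul_mulVec, Matrix.one_mulVec] at hv0
  have hp : ∀ m, (A.map φ) ^ m *ᵥ v = x ^ m • v := by
    intro m
    induction m with
    | zero => simp
    | succ m ih => rw [pow_succ, ← Matrix.mulVec_mulVec, ← hv0, Matrix.mulVec_smul, ih, smul_smul, mul_comm, ← pow_succ]
  have he : (A.map φ) ^ n = φ e • 1 := by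
    refine (map_pow φ.mapMatrix A n).symm.trans ?_
    rw [h]
    ext i j
    simp [Matrix.one_apply, apply_ite φ]
  have h2 := hp n
  rw [he, Matrix.smul_mulVec, Matrix.one_mulVec] at h2
  exact (smul_left_injective L hv h2).symm

theorem eigen_dvd {ι : Type*} [Fintype ι] [DecidableEq ι] (φ : F →+* L) (A : Matrix ι ι F) {x : L}
    (hx : (A.charpoly.map φ).IsRoot x) {n : ℕ} {e : F} (he : e * e = 1) (h : A ^ n = e • 1) :
    orderOf x ∣ 2 * n ∧ (e = 1 → orderOf x ∣ n) := by
  have h1 := eigen_pow φ A hx h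
  refine ⟨orderOf_dvd_of_pow_eq_one ?_, fun h' => orderOf_dvd_of_pow_eq_one (by rw [h1, h', map_one])⟩
  rw [mul_comm, pow_mul, h1, pow_two, ← map_mul, he, map_one]

variable [Fintype F] (p k : ℕ) [hp : Fact p.Prime] [CharP L p]

theorem exists_companion (φ : F →+* L) (hF : Fintype.card F = p ^ k) {x : L} (hx : x ≠ 0)
    (h : x ^ p ^ k = x ∨ x ^ p ^ k = x⁻¹) :
    ∃ t : F, φ t = x + x⁻¹ ∧
      ((CfsgLib.SL2.companion t : Matrix (Fin 2) (Fin 2) F).charpoly.map φ).IsRoot x := by
  have hfix : (x + x⁻¹) ^ Fintype.card F = x + x⁻¹ := by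
    rw [hF, frob_add p k, inv_pow]
    rcases h with e | e <;> rw [e]
    rw [inv_inv, add_comm]
  obtain ⟨t, ht⟩ := mem_range_of_fixed φ hfix
  refine ⟨t, ht, ?_⟩
  rw [Matrix.charpoly_fin_two, CfsgLib.SL2.companion_trace, (CfsgLib.SL2.companion t).det_coe]
  simp [IsRoot.def, ht]
  field_simp
  ring

theorem exists_symplectic (φ : F →+* L) (hF : Fintype.card F = p ^ k) {x : L} (hx : x ≠ 0)
    (h : x ^ (p ^ k) ^ 2 = x ∨ x ^ (p ^ k) ^ 2 = x⁻¹) :
    ∃ g : Matrix.symplecticGroup (Fin 2) F,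
      ((g : Matrix (Fin 2 ⊕ Fin 2) (Fin 2 ⊕ Fin 2) F).charpoly.map φ).IsRoot x := by
  set s := -(x + x⁻¹) with hs
  set t := s ^ p ^ k with ht
  have hss : t ^ p ^ k = s := by
    rw [ht, hs, frob_neg p k, frob_neg p k, neg_inj, frob_add p k, frob_add p k, inv_pow, inv_pow,
      ← pow_mul, ← pow_two]
    rcases h with e | e <;> rw [e]
    rw [inv_inv, add_comm]
  obtain ⟨a, ha⟩ := mem_range_of_fixed φ (z := s + t) (by rw [hF, frob_add p k, hss, ← ht, add_comm])
  obtain ⟨b, hb⟩ := mem_range_of_fixed φ (z := s * t) (by rw [hF, mul_pow, hss, ← ht, mul_comm])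
  set f : F[X] := X ^ 4 + C a * X ^ 3 + C (b + 2) * X ^ 2 + C a * X + 1 with hf
  have hd : f.natDegree = 4 := by rw [hf]; compute_degree!
  have hm : f.Monic := by rw [hf]; monicity!
  have hrev : f.reverse = f := by
    ext i
    rw [Polynomial.coeff_reverse, hd]
    by_cases hi : i ≤ 4
    · rw [Polynomial.revAt_le hi, hf]
      interval_cases i <;> simp [coeff_one, coeff_X, coeff_C_mul, coeff_X_pow, -map_add]
    · rw [revAt_eq_self_of_lt (by omega)]
  obtain ⟨g, hg⟩ := CfsgLib.Classical.SympCompanion.exists_charpoly (n := 2) f hm (by rw [hd]) (by rw [hf]; simp) hrev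
  refine ⟨g, ?_⟩
  rw [hg, show f.map φ = quad s * quad t by
    simp only [hf, quad, Polynomial.map_add, Polynomial.map_mul, Polynomial.map_pow, map_X, map_C, Polynomial.map_one,
      map_add, map_mul, map_ofNat, Polynomial.map_ofNat, ha, hb]
    ring, IsRoot.def, eval_mul, hs, quad_eq hx]
  simp

end CfsgLib.Spectrum.PSpFour
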