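import Cfsg.Agent.Lib.SL2.Basic
import Cfsg.Agent.Lib.Spectrum.PSpFour.Roots

/-!
The group `SL(2)` over the quadratic extension and its twisted tensor module.
-/

set_option autoImplicit false
set_option linter.unusedSectionVars false
set_option linter.style.haveILetI false
set_option linter.style.longLine false

namespace CfsgLib.Spectrum.PSpFour

open Matrix Polynomial
open scoped Kronecker MatrixGroups

variable {L : Type*} [Field L] (p : ℕ) [hp : Fact p.Prime] [CharP L p]

theorem sl2_cases (k : ℕ) (hk : k ≠ 0) (g : SL(2, L))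
    (ht : (g : Matrix (Fin 2) (Fin 2) L).trace ^ p ^ k = (g : Matrix (Fin 2) (Fin 2) L).trace) :
    (∃ e : L, e * e = 1 ∧ (g : Matrix (Fin 2) (Fin 2) L) ^ p = e • 1) ∨
      ∃ m, (m = p ^ k - 1 ∨ m = p ^ k + 1) ∧ g ^ m = 1 := by
  classical
  set G := (g : Matrix (Fin 2) (Fin 2) L) with hG
  let φ := algebraMap L (AlgebraicClosure L)
  haveI : CharP (AlgebraicClosure L) p := charP_of_injective_algebraMap φ.injective p
  haveI : CharP (Matrix (Fin 2) (Fin 2) (AlgebraicClosure L)) p := inferInstance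
  have hann : aeval (G.map φ) (quad (-φ G.trace)) = 0 := by
    have h := (G.map φ).aeval_self_charpoly
    rw [Matrix.charpoly_map, Matrix.charpoly_fin_two, hG, g.det_coe] at h
    rw [quad, map_neg]
    simpa [Polynomial.map_sub, Polynomial.map_mul, Polynomial.map_pow, sub_eq_add_neg] using h
  have pull : ∀ (n : ℕ) (c : L), G.map φ ^ n = φ c • 1 → G ^ n = c • 1 := by
    intro n c h
    refine Matrix.map_injective φ.injective (((map_pow φ.mapMatrix G n).trans h).trans ?_)
    ext i j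
    simp [Matrix.one_apply, apply_ite φ]
  have hs : (-φ G.trace) ^ p ^ k = -φ G.trace := by rw [frob_neg p k, ← map_pow, hG, ht]
  rcases quad_cases p k hk hs with ⟨e, he, hq⟩ | ⟨m, hm, hd⟩
  · refine Or.inl ?_
    have h2 : (G.map φ - e • 1) ^ 2 = 0 := by
      rw [hq, map_pow, map_sub, aeval_X, aeval_C, Algebra.algebraMap_eq_smul_one] at hann
      exact hann
    have h3 : (G.map φ - e • 1) ^ p = 0 := by
      rw [← Nat.add_sub_cancel' hp.out.two_le, pow_add, h2, zero_mul]
    rw [sub_pow_char_of_commute p ((Commute.one_right _).smul_right e), sub_eq_zero, _root_.smul_pow, one_pow] at h3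
    rcases mul_self_eq_one_iff.mp he with rfl | rfl
    · exact ⟨1, one_mul 1, pull p 1 (by rw [h3, one_pow, map_one])⟩
    · refine ⟨-1, by ring, pull p (-1) ?_⟩
      have := frob_neg (K := AlgebraicClosure L) p 1 1
      rw [pow_one, one_pow] at this
      rw [h3, this, map_neg, map_one]
  · refine Or.inr ⟨m, hm, ?_⟩
    obtain ⟨R, hR⟩ := hd
    have h := congrArg (aeval (G.map φ)) hR
    rw [map_mul, hann, zero_mul, map_sub, map_pow, aeval_X, map_one, sub_eq_zero] at h
    refine Subtype.ext ?_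
    rw [Matrix.SpecialLinearGroup.coe_pow, Matrix.SpecialLinearGroup.coe_one, ← hG,
      pull m 1 (by rw [h, map_one, one_smul]), one_smul]

/-- An element of `SL(2)` with an eigenvalue of a given order. -/
theorem exists_elem [Fintype L] (k l : ℕ) (hL : Fintype.card L = p ^ l) {N : ℕ} (hN : (N : L) ≠ 0)
    (h : N ∣ p ^ l - 1 ∨ N ∣ p ^ l + 1) :
    ∃ t : L, (∀ (n : ℕ) (e : L), e * e = 1 → (CfsgLib.SL2.companion t : Matrix (Fin 2) (Fin 2) L) ^ n = e • 1 →
        N ∣ 2 * n ∧ (e = 1 → N ∣ n)) ∧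
      ((N ∣ p ^ k - 1 ∨ N ∣ p ^ k + 1) → t ^ p ^ k = t) := by
  set φ := algebraMap L (AlgebraicClosure L)
  haveI : CharP (AlgebraicClosure L) p := charP_of_injective_algebraMap φ.injective p
  have hNL : (N : AlgebraicClosure L) ≠ 0 := by rw [← map_natCast φ, _root_.map_ne_zero]; exact hN
  obtain ⟨x, hx⟩ := exists_orderOf N hNL
  have hx0 : x ≠ 0 := fun e => by
    subst e
    rw [orderOf_zero] at hx
    exact hN (by rw [← hx, Nat.cast_zero])
  have tw : ∀ j, (N ∣ p ^ j - 1 ∨ N ∣ p ^ j + 1) → x ^ p ^ j = x ∨ x ^ p ^ j = x⁻¹ := by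
    intro j hj
    rw [← hx] at hj
    rcases hj with hj | hj
    · left
      rw [← Nat.sub_add_cancel (Nat.one_le_pow j p hp.out.pos), pow_succ, orderOf_dvd_iff_pow_eq_one.mp hj, one_mul]
    · exact Or.inr (eq_inv_of_mul_eq_one_left (by rw [← pow_succ, orderOf_dvd_iff_pow_eq_one.mp hj]))
  obtain ⟨t, ht, hroot⟩ := exists_companion p l φ hL hx0 (tw l h)
  refine ⟨t, fun n e he hn => hx ▸ eigen_dvd φ _ hroot he hn, fun hk => φ.injective ?_⟩
  rw [map_pow, ht, frob_add p k, inv_pow]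
  rcases tw k hk with e | e <;> rw [e]
  rw [inv_inv, add_comm]

/-- The twisted tensor square. -/
noncomputable def tensor (k : ℕ) : SL(2, L) →* Matrix (Fin 2 × Fin 2) (Fin 2 × Fin 2) L where
  toFun g := (g : Matrix (Fin 2) (Fin 2) L).map (iterateFrobenius L p k) ⊗ₖ (g : Matrix (Fin 2) (Fin 2) L)
  map_one' := by simp
  map_mul' a b := by simp [Matrix.mul_kronecker_mul, Matrix.map_mul]

theorem trace_eq_of_fixed {G H X : Matrix (Fin 2) (Fin 2) L} (hG : G.det = 1) (hH : H.det = 1)
    (hX : X ≠ 0) (h : G * X * Hᵀ = X) : G.trace = H.trace := by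
  have hB : Hᵀ * Hᵀ.adjugate = 1 := by rw [mul_adjugate, det_transpose, hH, one_smul]
  have hGX : G * X = X * Hᵀ.adjugate := by
    calc G * X = G * X * (Hᵀ * Hᵀ.adjugate) := by rw [hB, Matrix.mul_one]
      _ = X * Hᵀ.adjugate := by rw [← Matrix.mul_assoc, h]
  have hBt : Hᵀ.adjugate.trace = H.trace := by simp [adjugate_fin_two, trace_fin_two, add_comm]
  have hBd : Hᵀ.adjugate.det = 1 := by rw [det_adjugate, det_transpose, hH, one_pow]
  by_contra hne
  have h1 : (G * G) * X = (X * Hᵀ.adjugate) * Hᵀ.adjugate := by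
    rw [Matrix.mul_assoc, hGX, ← Matrix.mul_assoc, hGX]
  rw [CfsgLib.SL2.cayley G, Matrix.mul_assoc X, CfsgLib.SL2.cayley Hᵀ.adjugate, hG, hBd, hBt] at h1
  simp only [Matrix.sub_mul, Matrix.smul_mul, one_smul, Matrix.one_mul, Matrix.mul_sub, Matrix.mul_smul,
    Matrix.mul_one, ← hGX, sub_left_inj] at h1
  have h2 : G * X = 0 := by
    have : (G.trace - H.trace) • (G * X) = 0 := by rw [sub_smul, h1, sub_self]
    exact (smul_eq_zero.mp this).resolve_left (sub_ne_zero.mpr hne)
  refine hX ?_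
  calc X = (G.adjugate * G) * X := by rw [adjugate_mul, hG, one_smul, Matrix.one_mul]
    _ = 0 := by rw [Matrix.mul_assoc, h2, Matrix.mul_zero]

theorem trace_fixed (k : ℕ) (g : SL(2, L)) {v : Fin 2 × Fin 2 → L} (hv : v ≠ 0)
    (h : tensor p k g *ᵥ v = v) :
    (g : Matrix (Fin 2) (Fin 2) L).trace ^ p ^ k = (g : Matrix (Fin 2) (Fin 2) L).trace := by
  set X : Matrix (Fin 2) (Fin 2) L := Matrix.of fun i j => v (j, i) with hX
  have hvec : X.vec = v := rfl
  rw [← hvec, tensor, MonoidHom.coe_mk, OneHom.coe_mk, kronecker_mulVec_vec, vec_inj] at h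
  have hdet : ((g : Matrix (Fin 2) (Fin 2) L).map (iterateFrobenius L p k)).det = 1 := by
    rw [← RingHom.mapMatrix_apply, ← RingHom.map_det, g.det_coe, map_one]
  have hX0 : X ≠ 0 := fun e => hv (by rw [← hvec, e]; rfl)
  have := trace_eq_of_fixed g.det_coe hdet hX0 h
  rw [← iterateFrobenius_def]
  refine Eq.trans ?_ this.symm
  simp [Matrix.trace_fin_two]

theorem fixed_form (k : ℕ) (t : L) (ht : t ^ p ^ k = t) :
    ∃ v : Fin 2 × Fin 2 → L, v ≠ 0 ∧ tensor p k (CfsgLib.SL2.companion t) *ᵥ v = v := by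
  refine ⟨(!![0, 1; -1, 0] : Matrix (Fin 2) (Fin 2) L).vec, fun h => ?_, ?_⟩
  · have := congrFun h (1, 0)
    simp [Matrix.vec] at this
  · have hm : ((CfsgLib.SL2.companion t : Matrix (Fin 2) (Fin 2) L)).map (iterateFrobenius L p k) =
        (CfsgLib.SL2.companion t : Matrix (Fin 2) (Fin 2) L) := by
      ext i j
      have hσ : iterateFrobenius L p k t = t := by rw [iterateFrobenius_def]; exact ht
      fin_cases i <;> fin_cases j <;> simp [CfsgLib.SL2.companion, hσ]
    rw [tensor, MonoidHom.coe_mk, OneHom.coe_mk, kronecker_mulVec_vec, hm, vec_inj]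
    ext i j
    fin_cases i <;> fin_cases j <;> simp [CfsgLib.SL2.companion, Matrix.mul_apply, Fin.sum_univ_two]

end CfsgLib.Spectrum.PSpFour
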