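import Mathlib
import Cfsg.Agent.Lib.Spectrum.Extension

/-!
Extensions of a linear group by copies of its module.
-/

set_option autoImplicit false
set_option linter.style.haveILetI false
set_option linter.unusedSectionVars false

namespace CfsgLib.Spectrum.PSpFour

open Matrix

variable {L : Type} [Field L] [Fintype L] {ι : Type} [Fintype ι] [DecidableEq ι] {X : Type} [Group X]

/-- Left multiplication on several copies of the module. -/
def act (ρ : X →* Matrix ι ι L) (N : ℕ) : X →* MulAut (Multiplicative (Matrix ι (Fin (N + 1)) L)) where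
  toFun a :=
    { toFun := fun v => Multiplicative.ofAdd (ρ a * Multiplicative.toAdd v)
      invFun := fun v => Multiplicative.ofAdd (ρ a⁻¹ * Multiplicative.toAdd v)
      left_inv := fun v => by
        beta_reduce
        rw [toAdd_ofAdd, ← Matrix.mul_assoc, ← map_mul, inv_mul_cancel, map_one, Matrix.one_mul]; rfl
      right_inv := fun v => by
        beta_reduce
        rw [toAdd_ofAdd, ← Matrix.mul_assoc, ← map_mul, mul_inv_cancel, map_one, Matrix.one_mul]; rfl
      map_mul' := fun v w => by simp only [toAdd_mul, Matrix.mul_add]; rfl }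
  map_one' := by
    ext v : 1
    show Multiplicative.ofAdd (ρ 1 * Multiplicative.toAdd v) = v
    rw [map_one, Matrix.one_mul]; rfl
  map_mul' a b := by
    ext v : 1
    show Multiplicative.ofAdd (ρ (a * b) * Multiplicative.toAdd v) = Multiplicative.ofAdd (ρ a * (ρ b * Multiplicative.toAdd v))
    rw [map_mul, Matrix.mul_assoc]

/-- The sum of the powers of the image of `a` below its order. -/
noncomputable def tr (ρ : X →* Matrix ι ι L) (a : X) : Matrix ι ι L := ∑ i ∈ Finset.range (orderOf a), ρ a ^ i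

theorem norm_act (ρ : X →* Matrix ι ι L) (N : ℕ) (a : X) (v : Matrix ι (Fin (N + 1)) L) :
    SpectrumExt.norm (act ρ N) a (Multiplicative.ofAdd v) = Multiplicative.ofAdd (tr ρ a * v) := by
  rw [SpectrumExt.norm, SpectrumExt.normPow, tr, Matrix.sum_mul, ofAdd_sum]
  refine Finset.prod_congr rfl fun i _ => ?_
  show Multiplicative.ofAdd (ρ (a ^ i) * v) = _
  rw [map_pow]

theorem exists_witness [Finite X] (p : ℕ) [hp : Fact p.Prime] [CharP L p] [Nonempty ι] (ρ : X →* Matrix ι ι L)
    (S : Set ℕ) (up : ∀ a : X, orderOf a ∈ S) (upTr : ∀ a : X, tr ρ a ≠ 0 → orderOf a * p ∈ S)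
    (low : ∀ n ∈ S, (∃ a : X, n ∣ orderOf a) ∨ ∃ a : X, tr ρ a ≠ 0 ∧ n ∣ orderOf a * p) (N : ℕ) :
    ∃ (H : Type) (_ : Group H) (_ : Fintype H), N < Fintype.card H ∧ Set.range (orderOf : H → ℕ) = S := by
  classical
  let M := Multiplicative (Matrix ι (Fin (N + 1)) L)
  have hexp : ∀ v : M, v ^ p = 1 := fun v => by
    refine Multiplicative.toAdd.injective ?_
    rw [toAdd_pow, toAdd_one]
    ext i j
    rw [Matrix.smul_apply, nsmul_eq_mul, CharP.cast_eq_zero, zero_mul]
    rfl
  haveI : Finite (M ⋊[act ρ N] X) := Finite.of_equiv _ SemidirectProduct.equivProd.symm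
  have hr := SpectrumExt.range_eq (act ρ N) (p := p) hp.out hexp
  have hiff : ∀ a : X, (∃ v : M, SpectrumExt.norm (act ρ N) a v ≠ 1) ↔ tr ρ a ≠ 0 := by
    intro a
    constructor
    · rintro ⟨v, hv⟩ h
      apply hv
      rw [← ofAdd_toAdd v, norm_act, h, Matrix.zero_mul]
      rfl
    · intro h
      obtain ⟨i, j, hij⟩ : ∃ i j, tr ρ a i j ≠ 0 := by
        by_contra hcon
        push Not at hcon
        exact h (Matrix.ext hcon)
      refine ⟨Multiplicative.ofAdd (Matrix.single j 0 1), fun h1 => hij ?_⟩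
      rw [norm_act, ofAdd_eq_one] at h1
      simpa using congrFun (congrFun h1 i) (0 : Fin (N + 1))
  haveI : Fintype (M ⋊[act ρ N] X) := Fintype.ofFinite _
  refine ⟨M ⋊[act ρ N] X, inferInstance, inferInstance, ?_, ?_⟩
  · have hinj : Function.Injective (SemidirectProduct.inl : M →* M ⋊[act ρ N] X) := SemidirectProduct.inl_injective
    refine lt_of_lt_of_le ?_ (Nat.card_eq_fintype_card (α := M ⋊[act ρ N] X) ▸ Nat.card_le_card_of_injective _ hinj)
    rw [show Nat.card M = Nat.card (Matrix ι (Fin (N + 1)) L) from rfl, Nat.card_eq_fintype_card]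
    calc N < N + 1 := Nat.lt_succ_self N
      _ < 2 ^ (N + 1) := Nat.lt_two_pow_self
      _ ≤ _ := by
        show 2 ^ (N + 1) ≤ Fintype.card (ι → Fin (N + 1) → L)
        rw [Fintype.card_fun, Fintype.card_fun, Fintype.card_fin]
        exact (Nat.pow_le_pow_left Fintype.one_lt_card _).trans (Nat.le_self_pow Fintype.card_ne_zero _)
  · rw [hr]
    refine Set.Subset.antisymm ?_ ?_
    · rintro n (⟨a, rfl⟩ | ⟨a, ha, rfl⟩)
      · exact up a
      · exact upTr a ((hiff a).mp ha)
    · intro n hn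
      rw [← hr]
      obtain ⟨x, hx⟩ : ∃ x : M ⋊[act ρ N] X, n ∣ orderOf x := by
        rcases low n hn with ⟨a, ha⟩ | ⟨a, ha, hd⟩
        · exact ⟨SemidirectProduct.inr a, by rw [orderOf_injective _ SemidirectProduct.inr_injective]; exact ha⟩
        · have : orderOf a * p ∈ Set.range (orderOf : M ⋊[act ρ N] X → ℕ) :=
            hr ▸ Or.inr ⟨a, (hiff a).mpr ha, rfl⟩
          obtain ⟨x, hx⟩ := this
          exact ⟨x, hx ▸ hd⟩
      exact ⟨x ^ (orderOf x / n), orderOf_pow_orderOf_div (orderOf_pos x).ne' hx⟩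

theorem exists_fixed_of_tr_ne [Finite X] (ρ : X →* Matrix ι ι L) (a : X) (h : tr ρ a ≠ 0) :
    ∃ v : ι → L, v ≠ 0 ∧ ρ a *ᵥ v = v := by
  obtain ⟨i, j, hij⟩ : ∃ i j, tr ρ a i j ≠ 0 := by
    by_contra hcon
    push Not at hcon
    exact h (Matrix.ext hcon)
  have hA : ρ a * tr ρ a = tr ρ a := by
    rw [← sub_eq_zero, show ρ a * tr ρ a - tr ρ a = (ρ a - 1) * tr ρ a by rw [Matrix.sub_mul, Matrix.one_mul],
      tr, mul_geom_sum, ← map_pow, pow_orderOf_eq_one, map_one, sub_self]
  refine ⟨fun l => tr ρ a l j, fun h0 => hij (congrFun h0 i), ?_⟩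
  funext l
  exact congrFun (congrFun hA l) j

theorem tr_ne_of_fixed (ρ : X →* Matrix ι ι L) (a : X) {v : ι → L} (hv : v ≠ 0) (h : ρ a *ᵥ v = v)
    (hm : (orderOf a : L) ≠ 0) : tr ρ a ≠ 0 := by
  intro h0
  have hp : ∀ i : ℕ, ρ a ^ i *ᵥ v = v := fun i => by
    induction i with
    | zero => simp
    | succ i ih => rw [pow_succ, ← Matrix.mulVec_mulVec, h, ih]
  have := congrArg (· *ᵥ v) h0
  simp only [tr, Matrix.sum_mulVec, hp, Finset.sum_const, Finset.card_range, Matrix.zero_mulVec] at this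
  rw [← Nat.cast_smul_eq_nsmul L, smul_eq_zero] at this
  exact this.elim hm hv

end CfsgLib.Spectrum.PSpFour
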