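import Cfsg.Agent.Lib.Spectrum.PSpFour.Orders
import Cfsg.Agent.Lib.Spectrum.PSpFour.Twisted
import Cfsg.Agent.Lib.Spectrum.PSpFour.Witness

/-!
Extensions of `SL(2, q ^ 2)` isospectral to `PSp(4, q)`, for even `q`.
-/

set_option autoImplicit false
set_option linter.unusedSectionVars false
set_option linter.style.haveILetI false
set_option linter.style.longLine false

namespace CfsgLib.Spectrum.PSpFour

open Matrix
open scoped MatrixGroups Kronecker

theorem even_witness {k : ℕ} (hk : 2 ≤ k) (N : ℕ) :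
    ∃ (H : Type) (_ : Group H) (_ : Fintype H), N < Fintype.card H ∧
      Set.range (orderOf : H → ℕ) = spec 2 (2 ^ k) := by
  classical
  haveI : Fintype (GaloisField 2 (2 * k)) := Fintype.ofFinite _
  set L := GaloisField 2 (2 * k)
  have hL : Fintype.card L = 2 ^ (2 * k) := by
    rw [← Nat.card_eq_fintype_card]; exact GaloisField.card 2 _ (by omega)
  have hq4 : 4 ≤ 2 ^ k := by
    calc 4 = 2 ^ 2 := rfl
      _ ≤ 2 ^ k := Nat.pow_le_pow_right two_pos hk
  have hev : ∀ j, j ≠ 0 → ¬ 2 ∣ 2 ^ j - 1 ∧ ¬ 2 ∣ 2 ^ j + 1 := fun j hj => by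
    obtain ⟨c, hc⟩ := (even_two (α := ℕ)).pow_of_ne_zero hj
    have := Nat.one_le_pow j 2 two_pos
    constructor <;> omega
  have hcast : ∀ n : ℕ, ¬ 2 ∣ n → (n : L) ≠ 0 := fun n h => fun e => h ((CharP.cast_eq_zero_iff L 2 n).mp e)
  have hQ : 2 ^ (2 * k) = (2 ^ k) ^ 2 := by rw [mul_comm, pow_mul]
  have hc : cen (2 ^ k) = 1 := by
    rcases cen_torus 2 k (by omega) with ⟨-, h⟩ | ⟨h, -⟩
    · exact h
    · exact absurd h (by simp [Nat.odd_iff, Nat.pow_mod, show k ≠ 0 by omega])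
  have htP : torP (2 ^ k) = 2 ^ (2 * k) + 1 := by rw [torP, hc, Nat.div_one, hQ]
  have htM : torM (2 ^ k) = 2 ^ (2 * k) - 1 := by rw [torM, hc, Nat.div_one, hQ]
  have hpow : ∀ (g : SL(2, L)), (∃ e : L, e * e = 1 ∧ (g : Matrix (Fin 2) (Fin 2) L) ^ 2 = e • 1) →
      orderOf g ∣ 2 := by
    rintro g ⟨e, he, h⟩
    refine orderOf_dvd_of_pow_eq_one (Subtype.ext ?_)
    rw [Matrix.SpecialLinearGroup.coe_pow, h, Matrix.SpecialLinearGroup.coe_one]
    rcases mul_self_eq_one_iff.mp he with rfl | rfl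
    · rw [one_smul]
    · rw [CharTwo.neg_eq, one_smul]
  refine exists_witness 2 (tensor (L := L) 2 k) _ ?_ ?_ ?_ N
  · intro g
    rcases sl2_cases 2 (2 * k) (by omega) g (by rw [← hL, FiniteField.pow_card]) with h | ⟨m, hm, h⟩
    · exact Or.inr (Or.inr (Or.inl ((hpow g h).trans (dvd_mul_right _ _))))
    · rcases hm with rfl | rfl
      · exact Or.inr (Or.inl (htM ▸ orderOf_dvd_of_pow_eq_one h))
      · exact Or.inl (htP ▸ orderOf_dvd_of_pow_eq_one h)
  · intro g hg
    obtain ⟨v, hv, hfix⟩ := exists_fixed_of_tr_ne _ g hg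
    rcases sl2_cases 2 k (by omega) g (trace_fixed 2 k g hv hfix) with h | ⟨m, hm, h⟩
    · exact Or.inr (Or.inr (Or.inr (Or.inr (Nat.mul_dvd_mul_right (hpow g h) 2))))
    · rcases hm with rfl | rfl
      · exact Or.inr (Or.inr (Or.inl (mul_comm (orderOf g) 2 ▸ Nat.mul_dvd_mul_left 2 (orderOf_dvd_of_pow_eq_one h))))
      · exact Or.inr (Or.inr (Or.inr (Or.inl (mul_comm (orderOf g) 2 ▸ Nat.mul_dvd_mul_left 2 (orderOf_dvd_of_pow_eq_one h)))))
  · have big : ∀ {M : ℕ}, (M = 2 ^ (2 * k) - 1 ∨ M = 2 ^ (2 * k) + 1) → ∃ a : SL(2, L), M ∣ orderOf a := by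
      intro M hM
      obtain ⟨t, ht, -⟩ := exists_elem (L := L) 2 k (2 * k) hL (N := M)
        (hcast M (by rcases hM with rfl | rfl; exacts [(hev _ (by omega)).1, (hev _ (by omega)).2]))
        (by rcases hM with rfl | rfl <;> simp)
      refine ⟨CfsgLib.SL2.companion t, (ht _ 1 (one_mul 1) ?_).2 rfl⟩
      rw [one_smul, ← Matrix.SpecialLinearGroup.coe_pow, pow_orderOf_eq_one, Matrix.SpecialLinearGroup.coe_one]
    have small : ∀ {M : ℕ}, (M = 2 ^ k - 1 ∨ M = 2 ^ k + 1) →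
        ∃ a : SL(2, L), tr (tensor 2 k) a ≠ 0 ∧ 2 * M ∣ orderOf a * 2 := by
      intro M hM
      have hdvd : M ∣ 2 ^ (2 * k) - 1 := by
        rw [← htM]; exact torus_dvd_torM 2 k (by omega) hM
      obtain ⟨t, ht, hfix⟩ := exists_elem (L := L) 2 k (2 * k) hL (N := M)
        (hcast M (by rcases hM with rfl | rfl; exacts [(hev _ (by omega)).1, (hev _ (by omega)).2])) (Or.inl hdvd)
      have htf := hfix (by rcases hM with rfl | rfl <;> simp)
      have hd : M ∣ orderOf (CfsgLib.SL2.companion t) := by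
        refine (ht _ 1 (one_mul 1) ?_).2 rfl
        rw [one_smul, ← Matrix.SpecialLinearGroup.coe_pow, pow_orderOf_eq_one, Matrix.SpecialLinearGroup.coe_one]
      refine ⟨CfsgLib.SL2.companion t, ?_, by rw [mul_comm]; exact Nat.mul_dvd_mul_right hd 2⟩
      obtain ⟨v, hv, hv1⟩ := fixed_form 2 k t htf
      refine tr_ne_of_fixed _ _ hv hv1 (hcast _ ?_)
      rcases sl2_cases 2 k (by omega) (CfsgLib.SL2.companion t)
          (by rw [CfsgLib.SL2.companion_trace]; exact htf) with h | ⟨m, hm, h⟩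
      · exfalso
        have := Nat.le_of_dvd two_pos (hd.trans (hpow _ h))
        rcases hM with rfl | rfl <;> omega
      · intro h2
        have := h2.trans (orderOf_dvd_of_pow_eq_one h)
        rcases hm with rfl | rfl
        · exact (hev k (by omega)).1 this
        · exact (hev k (by omega)).2 this
    rintro n (h | h | h | h | h)
    · obtain ⟨a, ha⟩ := big (Or.inr htP)
      exact Or.inl ⟨a, h.trans ha⟩
    · obtain ⟨a, ha⟩ := big (Or.inl htM)
      exact Or.inl ⟨a, h.trans ha⟩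
    · obtain ⟨a, ha, hd⟩ := small (Or.inl rfl)
      exact Or.inr ⟨a, ha, h.trans hd⟩
    · obtain ⟨a, ha, hd⟩ := small (Or.inr rfl)
      exact Or.inr ⟨a, ha, h.trans hd⟩
    · let u : SL(2, L) := ⟨!![1, 1; 0, 1], by simp [Matrix.det_fin_two_of]⟩
      have hu : orderOf u = 2 := by
        refine orderOf_eq_prime (Subtype.ext ?_) fun h => ?_
        · rw [Matrix.SpecialLinearGroup.coe_pow, Matrix.SpecialLinearGroup.coe_one]
          show (!![1, 1; 0, 1] : Matrix (Fin 2) (Fin 2) L) ^ 2 = 1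
          rw [pow_two, Matrix.mul_fin_two, Matrix.one_fin_two]
          simp [CharTwo.add_self_eq_zero]
        · have := congrArg (fun z : SL(2, L) => (z : Matrix (Fin 2) (Fin 2) L) 0 1) h
          simp [u] at this
      refine Or.inr ⟨u, fun h0 => ?_, by rw [hu]; exact h⟩
      have := congrFun (congrFun h0 (0, 0)) (0, 1)
      simp [tr, hu, Finset.sum_range_succ, tensor, u, Matrix.one_apply] at this

end CfsgLib.Spectrum.PSpFour
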