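import Cfsg.Agent.Lib.Spectrum.PSpFour.Orders
import Cfsg.Agent.Lib.Spectrum.PSpFour.Twisted
import Cfsg.Agent.Lib.Spectrum.PSpFour.Witness

/-!
The witness in characteristic at least five.
-/

set_option autoImplicit false
set_option linter.unusedSectionVars false
set_option linter.style.haveILetI false
set_option linter.style.longLine false

namespace CfsgLib.Spectrum.PSpFour

open Matrix Polynomial
open scoped Kronecker MatrixGroups

variable {L : Type} [Field L] (p : ℕ) [hp : Fact p.Prime] [CharP L p] (k : ℕ)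

/-- The Frobenius twist. -/
noncomputable def twist : SL(2, L) →* SL(2, L) := Matrix.SpecialLinearGroup.map (iterateFrobenius L p k)

/-- The interchange of the factors. -/
def swapM : Matrix (Fin 2 × Fin 2) (Fin 2 × Fin 2) L := Matrix.of fun i j => if i = j.swap then 1 else 0

theorem swapM_mul_apply (A : Matrix (Fin 2 × Fin 2) (Fin 2 × Fin 2) L) (i j : Fin 2 × Fin 2) :
    ((swapM : Matrix (Fin 2 × Fin 2) (Fin 2 × Fin 2) L) * A) i j = A i.swap j := by
  rw [Matrix.mul_apply, Finset.sum_eq_single i.swap]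
  · simp [swapM]
  · intro b _ hb
    have : i ≠ b.swap := fun h => hb (by rw [h, Prod.swap_swap])
    simp [swapM, this]
  · simp

theorem mul_swapM_apply (A : Matrix (Fin 2 × Fin 2) (Fin 2 × Fin 2) L) (i j : Fin 2 × Fin 2) :
    (A * (swapM : Matrix (Fin 2 × Fin 2) (Fin 2 × Fin 2) L)) i j = A i j.swap := by
  rw [Matrix.mul_apply, Finset.sum_eq_single j.swap]
  · simp [swapM]
  · intro b _ hb
    simp [swapM, hb]
  · simp

theorem swapM_mul_swapM : (swapM : Matrix (Fin 2 × Fin 2) (Fin 2 × Fin 2) L) * swapM = 1 := by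
  ext i j
  rw [swapM_mul_apply]
  simp only [swapM, Matrix.of_apply, Matrix.one_apply]
  exact if_congr Prod.swap_injective.eq_iff rfl rfl

theorem swapM_tensor [Fintype L] (hL : Fintype.card L = p ^ (2 * k)) (g : SL(2, L)) :
    swapM * tensor p k g = tensor p k (twist p k g) * swapM := by
  ext i j
  rw [swapM_mul_apply, mul_swapM_apply]
  have hσ : ∀ z : L, iterateFrobenius L p k (iterateFrobenius L p k z) = z := fun z => by
    rw [iterateFrobenius_def, iterateFrobenius_def, ← pow_mul, ← pow_add, ← two_mul, ← hL, FiniteField.pow_card]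
  simp [tensor, twist, hσ, mul_comm]

theorem tensor_pow_one_iff (g : SL(2, L)) (n : ℕ) :
    tensor p k g ^ n = 1 ↔ ∃ e : L, e * e = 1 ∧ (g : Matrix (Fin 2) (Fin 2) L) ^ n = e • 1 := by
  rw [← map_pow]
  constructor
  · intro h
    rw [← Matrix.SpecialLinearGroup.coe_pow]
    set G := ((g ^ n : SL(2, L)) : Matrix (Fin 2) (Fin 2) L) with hG
    have hf : ∀ a b c d, iterateFrobenius L p k (G a b) * G c d = if a = b ∧ c = d then 1 else 0 := by
      intro a b c d
      have := congrFun (congrFun h (a, c)) (b, d)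
      simpa [tensor, Matrix.one_apply, hG] using this
    have hd : G.det = 1 := (g ^ n).det_coe
    have h00 := hf 0 0 0 0
    have h01 := hf 0 0 0 1
    have h10 := hf 0 0 1 0
    have h11 := hf 0 0 1 1
    simp at h00 h01 h10 h11
    have hn0 : iterateFrobenius L p k (G 0 0) ≠ 0 := fun e => by simp [e] at h00
    have e01 : G 0 1 = 0 := h01.resolve_left fun e => hn0 (by simp [e])
    have e10 : G 1 0 = 0 := h10.resolve_left fun e => hn0 (by simp [e])
    have e11 : G 1 1 = G 0 0 := mul_left_cancel₀ hn0 (h11.trans h00.symm)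
    refine ⟨G 0 0, ?_, ?_⟩
    · rw [Matrix.det_fin_two, e01, e11, zero_mul, sub_zero] at hd
      exact hd
    · ext i j
      fin_cases i <;> fin_cases j <;> simp [e01, e10, e11]
  · rintro ⟨e, he, h⟩
    rw [tensor, MonoidHom.coe_mk, OneHom.coe_mk, Matrix.SpecialLinearGroup.coe_pow, h]
    ext ⟨a, c⟩ ⟨b, d⟩
    have hσe : iterateFrobenius L p k e = e := by
      rcases mul_self_eq_one_iff.mp he with rfl | rfl
      · exact map_one _
      · rw [map_neg, map_one]
    by_cases h1 : a = b <;> by_cases h2 : c = d <;> simp [Matrix.one_apply, h1, h2, hσe, he]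

theorem swapM_ne_tensor (g : SL(2, L)) : swapM ≠ tensor p k g := by
  intro h
  have h1 := congrFun (congrFun h (0, 0)) (0, 0)
  have h2 := congrFun (congrFun h (0, 0)) (0, 1)
  have h3 := congrFun (congrFun h (0, 1)) (1, 0)
  simp [swapM, tensor] at h1 h2 h3
  rcases h2 with e | e
  · simp [e] at h1
  · simp [e] at h3

theorem outer_sq [Fintype L] (hL : Fintype.card L = p ^ (2 * k)) (g : SL(2, L)) :
    (swapM * tensor p k g) ^ 2 = tensor p k (twist p k g * g) := by
  rw [pow_two, map_mul, ← Matrix.mul_assoc, swapM_tensor p k hL g, Matrix.mul_assoc (tensor p k (twist p k g)) swapM swapM,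
    swapM_mul_swapM, Matrix.mul_one]

theorem outer_pow [Fintype L] (hL : Fintype.card L = p ^ (2 * k)) (g : SL(2, L)) {n : ℕ}
    (h : (swapM * tensor p k g) ^ n = 1) :
    ∃ i, n = 2 * i ∧ ∃ e : L, e * e = 1 ∧ ((twist p k g * g : SL(2, L)) : Matrix (Fin 2) (Fin 2) L) ^ i = e • 1 := by
  rcases Nat.even_or_odd' n with ⟨i, rfl | rfl⟩
  · refine ⟨i, rfl, ?_⟩
    rw [pow_mul, outer_sq p k hL] at h
    exact (tensor_pow_one_iff p k _ i).mp h
  · exfalso
    rw [pow_succ', pow_mul, outer_sq p k hL, ← map_pow, Matrix.mul_assoc, ← map_mul] at h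
    refine swapM_ne_tensor p k (g * (twist p k g * g) ^ i) ?_
    conv_lhs => rw [← Matrix.mul_one swapM, ← h, ← Matrix.mul_assoc, swapM_mul_swapM, Matrix.one_mul]

theorem fixed_swap (g : SL(2, L)) {Y : Matrix (Fin 2) (Fin 2) L}
    (h : ((g : Matrix (Fin 2) (Fin 2) L) * Y * ((g : Matrix (Fin 2) (Fin 2) L).map (iterateFrobenius L p k))ᵀ)ᵀ = Y) :
    (swapM * tensor p k g) *ᵥ Y.vec = Y.vec := by
  have hs : ∀ Z : Matrix (Fin 2) (Fin 2) L, (swapM : Matrix (Fin 2 × Fin 2) (Fin 2 × Fin 2) L) *ᵥ Z.vec = Zᵀ.vec := by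
    intro Z
    funext x
    rw [Matrix.mulVec, dotProduct, Finset.sum_eq_single x.swap]
    · simp [swapM, Matrix.vec]
    · intro b _ hb
      have : x ≠ b.swap := fun h => hb (by rw [h, Prod.swap_swap])
      simp [swapM, this]
    · simp
  rw [← Matrix.mulVec_mulVec, tensor, MonoidHom.coe_mk, OneHom.coe_mk, kronecker_mulVec_vec, hs, h]

theorem diag_twist (x y : L) (hxy : (Matrix.diagonal ![x, y]).det = 1) :
    ((twist p k ⟨Matrix.diagonal ![x, y], hxy⟩ * ⟨Matrix.diagonal ![x, y], hxy⟩ : SL(2, L)) : Matrix (Fin 2) (Fin 2) L) =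
      Matrix.diagonal ![iterateFrobenius L p k x * x, iterateFrobenius L p k y * y] := by
  show (Matrix.diagonal ![x, y]).map (iterateFrobenius L p k) * Matrix.diagonal ![x, y] = _
  rw [Matrix.diagonal_map (map_zero _), Matrix.diagonal_mul_diagonal]
  congr 1
  funext i
  fin_cases i <;> simp

theorem anti_twist (b : L) (hb : (!![0, b; -b⁻¹, 0] : Matrix (Fin 2) (Fin 2) L).det = 1) :
    ((twist p k ⟨!![0, b; -b⁻¹, 0], hb⟩ * ⟨!![0, b; -b⁻¹, 0], hb⟩ : SL(2, L)) : Matrix (Fin 2) (Fin 2) L) =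
      Matrix.diagonal ![-(iterateFrobenius L p k b * b⁻¹), -((iterateFrobenius L p k b)⁻¹ * b)] := by
  show (!![0, b; -b⁻¹, 0] : Matrix (Fin 2) (Fin 2) L).map (iterateFrobenius L p k) * !![0, b; -b⁻¹, 0] = _
  ext i j
  fin_cases i <;> fin_cases j <;> simp [Matrix.mul_apply, Fin.sum_univ_two]

/-- The group of inner and outer elements. -/
noncomputable def bigGroup [Fintype L] (hL : Fintype.card L = p ^ (2 * k)) :
    Subgroup (Matrix (Fin 2 × Fin 2) (Fin 2 × Fin 2) L)ˣ where
  carrier := {x | ∃ g : SL(2, L), (x : Matrix (Fin 2 × Fin 2) (Fin 2 × Fin 2) L) = tensor p k g ∨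
    (x : Matrix (Fin 2 × Fin 2) (Fin 2 × Fin 2) L) = swapM * tensor p k g}
  one_mem' := ⟨1, Or.inl (by rw [Units.val_one, map_one])⟩
  mul_mem' := by
    rintro x y ⟨g, hx⟩ ⟨h, hy⟩
    have e : ∀ a b : SL(2, L), tensor p k a * (swapM * tensor p k b) = swapM * tensor p k (twist p k a * b) := by
      intro a b
      have e1 : tensor p k a * swapM = swapM * tensor p k (twist p k a) := by
        rw [← Matrix.one_mul (tensor p k a), ← swapM_mul_swapM, Matrix.mul_assoc swapM, swapM_tensor p k hL,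
          Matrix.mul_assoc swapM, Matrix.mul_assoc, swapM_mul_swapM, Matrix.mul_one]
      rw [← Matrix.mul_assoc, e1, Matrix.mul_assoc, ← map_mul]
    rcases hx with hx | hx <;> rcases hy with hy | hy
    · exact ⟨g * h, Or.inl (by rw [Units.val_mul, hx, hy, map_mul])⟩
    · exact ⟨twist p k g * h, Or.inr (by rw [Units.val_mul, hx, hy, e])⟩
    · exact ⟨g * h, Or.inr (by rw [Units.val_mul, hx, hy, map_mul, Matrix.mul_assoc])⟩
    · exact ⟨twist p k g * h, Or.inl (by rw [Units.val_mul, hx, hy, Matrix.mul_assoc, e, ← Matrix.mul_assoc, swapM_mul_swapM, Matrix.one_mul])⟩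
  inv_mem' := by
    rintro x ⟨g, hx | hx⟩
    · refine ⟨g⁻¹, Or.inl (Units.inv_eq_of_mul_eq_one_right ?_)⟩
      rw [hx, ← map_mul, mul_inv_cancel, map_one]
    · refine ⟨twist p k g⁻¹, Or.inr (Units.inv_eq_of_mul_eq_one_right ?_)⟩
      rw [hx, Matrix.mul_assoc, ← Matrix.mul_assoc (tensor p k g), ]
      rw [show tensor p k g * swapM = swapM * tensor p k (twist p k g) by
        rw [← Matrix.one_mul (tensor p k g), ← swapM_mul_swapM, Matrix.mul_assoc swapM, swapM_tensor p k hL,
          Matrix.mul_assoc swapM, Matrix.mul_assoc, swapM_mul_swapM, Matrix.mul_one],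
        Matrix.mul_assoc swapM (tensor p k (twist p k g)), ← map_mul, ← map_mul, mul_inv_cancel, map_one, map_one,
        Matrix.mul_one, swapM_mul_swapM]

theorem sq_one_scalar [Fintype L] (h2 : (2 : L) ≠ 0) (g : SL(2, L)) {i : ℕ} (h : g ^ (2 * i) = 1) :
    ∃ e : L, e * e = 1 ∧ (g : Matrix (Fin 2) (Fin 2) L) ^ i = e • 1 := by
  set M := ((g ^ i : SL(2, L)) : Matrix (Fin 2) (Fin 2) L) with hM
  have hMM : M * M = 1 := by
    rw [hM, ← Matrix.SpecialLinearGroup.coe_mul, ← pow_add, ← two_mul, h, Matrix.SpecialLinearGroup.coe_one]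
  have hc := CfsgLib.SL2.cayley M
  rw [hMM, hM, (g ^ i).det_coe, ← hM, one_smul, eq_sub_iff_add_eq, ← two_smul L] at hc
  have ht : M.trace ≠ 0 := fun e => by
    rw [e, zero_smul] at hc
    have := congrFun (congrFun hc 0) 0
    simp at this
    exact h2 this
  have hMe : M = (M.trace⁻¹ * 2) • 1 := by rw [← smul_smul, hc, smul_smul, inv_mul_cancel₀ ht, one_smul]
  refine ⟨M.trace⁻¹ * 2, ?_, by rw [← Matrix.SpecialLinearGroup.coe_pow]; exact hMe⟩
  rw [hMe, Matrix.smul_mul, Matrix.one_mul, smul_smul] at hMM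
  simpa using congrFun (congrFun hMM 0) 0

theorem geom_char (A : Matrix (Fin 2 × Fin 2) (Fin 2 × Fin 2) L) :
    ∑ i ∈ Finset.range p, A ^ i = (A - 1) ^ (p - 1) := by
  have h : (∑ i ∈ Finset.range p, (X : L[X]) ^ i) = (X - 1) ^ (p - 1) := by
    refine mul_right_cancel₀ (b := (X - 1 : L[X])) (X_sub_C_ne_zero (1 : L) |> fun e => by simpa using e) ?_
    rw [geom_sum_mul, ← pow_succ, Nat.sub_add_cancel hp.out.one_le, sub_pow_char_of_commute p (Commute.one_right _), one_pow]
  have := congrArg (aeval A) h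
  simpa using this

theorem tensor_unipotent [Fintype L] (hp5 : 4 ≤ p) (g : SL(2, L)) {e : L} (he : e * e = 1)
    (h : (g : Matrix (Fin 2) (Fin 2) L) ^ p = e • 1) :
    ∑ i ∈ Finset.range p, tensor p k g ^ i = 0 := by
  rw [geom_char p]
  set G := (g : Matrix (Fin 2) (Fin 2) L) with hG
  set M := G - e • 1 with hM
  have hσe : iterateFrobenius L p k e = e := by
    rcases mul_self_eq_one_iff.mp he with rfl | rfl
    · exact map_one _
    · rw [map_neg, map_one]
  have hep : e ^ p = e := by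
    rcases mul_self_eq_one_iff.mp he with rfl | rfl
    · exact one_pow p
    · exact Odd.neg_one_pow (hp.out.odd_of_ne_two (by omega))
  have hMp : M ^ p = 0 := by
    rw [hM, sub_pow_char_of_commute p ((Commute.one_right _).smul_right e), _root_.smul_pow, one_pow, h, hep, sub_self]
  have hdet : M.det = 0 := by
    have := congrArg Matrix.det hMp
    rw [Matrix.det_pow, Matrix.det_zero] at this
    exact pow_eq_zero_iff hp.out.ne_zero |>.mp this
  have hMM : M * M = M.trace • M := by rw [CfsgLib.SL2.cayley M, hdet, zero_smul, sub_zero]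
  have hpw : ∀ n, M ^ (n + 1) = M.trace ^ n • M := by
    intro n
    induction n with
    | zero => simp
    | succ n ih => rw [pow_succ, ih, Matrix.smul_mul, hMM, smul_smul, ← pow_succ]
  have hM2 : M * M = 0 := by
    have h0 := hpw (p - 1)
    rw [Nat.sub_add_cancel hp.out.one_le, hMp] at h0
    rcases smul_eq_zero.mp h0.symm with e1 | e1
    · rw [hMM, pow_eq_zero_iff (by omega) |>.mp e1, zero_smul]
    · rw [e1, Matrix.zero_mul]
  set N := M.map (iterateFrobenius L p k) with hN
  have hN2 : N * N = 0 := by rw [hN, ← Matrix.map_mul, hM2]; simp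
  have hGs : G = e • 1 + M := by rw [hM]; abel
  have hGσ : G.map (iterateFrobenius L p k) = e • 1 + N := by
    rw [hGs, hN]
    ext i j
    simp [Matrix.one_apply, apply_ite (iterateFrobenius L p k), hσe]
  have hB : tensor p k g - 1 = e • (N ⊗ₖ (1 : Matrix (Fin 2) (Fin 2) L)) + e • ((1 : Matrix (Fin 2) (Fin 2) L) ⊗ₖ M) + N ⊗ₖ M := by
    show G.map (iterateFrobenius L p k) ⊗ₖ G - 1 = _
    rw [hGσ, hGs]
    simp only [Matrix.add_kronecker, Matrix.kronecker_add, Matrix.smul_kronecker, Matrix.kronecker_smul, smul_add, smul_smul, he,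
      Matrix.one_kronecker_one, one_smul]
    abel
  have h3 : (tensor p k g - 1) ^ 3 = 0 := by
    rw [hB]
    simp [pow_succ, Matrix.add_mul, Matrix.mul_add, ← Matrix.mul_kronecker_mul, Matrix.mul_assoc, hM2, hN2]
  exact pow_eq_zero_of_le (show 3 ≤ p - 1 by omega) h3

theorem geom_double (A : Matrix (Fin 2 × Fin 2) (Fin 2 × Fin 2) L) (n : ℕ) :
    ∑ i ∈ Finset.range (2 * n), A ^ i = (1 + A) * ∑ j ∈ Finset.range n, (A ^ 2) ^ j := by
  induction n with
  | zero => simp
  | succ n ih =>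
    rw [show 2 * (n + 1) = 2 * n + 1 + 1 by ring, Finset.sum_range_succ, Finset.sum_range_succ, ih, Finset.sum_range_succ,
      Matrix.mul_add, ← pow_mul, Matrix.add_mul 1 A, Matrix.one_mul, Matrix.add_mul 1 A, Matrix.one_mul, pow_succ' A (2 * n)]
    abel

theorem field_aux {K : Type*} [Field K] {x a : K} (hx : x ≠ 0) (ha : a ≠ 0) :
    x⁻¹ * (a * x) = a ∧ x * a * (a * x)⁻¹ = 1 ∧ -(x⁻¹ * x * a) * -a⁻¹ = 1 := by
  refine ⟨?_, ?_, ?_⟩ <;> field_simp

theorem five_witness {p : ℕ} [Fact p.Prime] (hp5 : 5 ≤ p) {k : ℕ} (hk : k ≠ 0) (N : ℕ) :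
    ∃ (H : Type) (_ : Group H) (_ : Fintype H), N < Fintype.card H ∧
      Set.range (orderOf : H → ℕ) = spec p (p ^ k) := by
  classical
  have hp := (Fact.out : p.Prime)
  haveI : Fintype (GaloisField p (2 * k)) := Fintype.ofFinite _
  set L := GaloisField p (2 * k)
  have hL : Fintype.card L = p ^ (2 * k) := by
    rw [← Nat.card_eq_fintype_card]; exact GaloisField.card p _ (by omega)
  have h2 : (2 : L) ≠ 0 := fun h => by
    have : ((2 : ℕ) : L) = 0 := by exact_mod_cast h
    have := Nat.le_of_dvd two_pos ((CharP.cast_eq_zero_iff L p 2).mp this)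
    omega
  set q := p ^ k with hq
  have hQ : p ^ (2 * k) = q ^ 2 := by rw [hq, ← pow_mul, mul_comm]
  have hodd : Odd q := (hp.odd_of_ne_two (by omega)).pow
  have hq5 : 5 ≤ q := le_trans hp5 (Nat.le_self_pow hk p)
  have hc : cen q = 2 := by
    rcases cen_torus p k hk with ⟨h, -⟩ | ⟨-, h⟩
    · omega
    · exact h
  have hq2 : 1 ≤ q ^ 2 := Nat.one_le_pow _ _ (by omega)
  have heven : ∀ m, (m = q - 1 ∨ m = q + 1) → 2 * (m / 2) = m := fun m hm => by
    obtain ⟨c, hc⟩ := hodd
    rcases hm with rfl | rfl <;> omega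
  have hPev : 2 * torP q = q ^ 2 + 1 ∧ 2 * torM q = q ^ 2 - 1 := by
    obtain ⟨c, hc'⟩ := hodd.mul hodd
    rw [torP, torM, hc, pow_two]
    omega
  let ρ : bigGroup p k hL →* Matrix (Fin 2 × Fin 2) (Fin 2 × Fin 2) L :=
    (Units.coeHom _).comp (bigGroup p k hL).subtype
  have hinj : Function.Injective ρ := Units.val_injective.comp Subtype.val_injective
  have hord : ∀ a n, ρ a ^ n = 1 → orderOf a ∣ n := fun a n h =>
    orderOf_dvd_of_pow_eq_one (hinj (by rw [map_pow, h, map_one]))
  have hone : ∀ a, ρ a ^ orderOf a = 1 := fun a => by rw [← map_pow, pow_orderOf_eq_one, map_one]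
  have innerCases : ∀ (g : SL(2, L)) (j : ℕ), j ≠ 0 → (g : Matrix (Fin 2) (Fin 2) L).trace ^ p ^ j = (g : Matrix (Fin 2) (Fin 2) L).trace →
      (∃ e : L, e * e = 1 ∧ (g : Matrix (Fin 2) (Fin 2) L) ^ p = e • 1) ∨
        ∃ m i, (m = p ^ j - 1 ∨ m = p ^ j + 1) ∧ 2 * i = m ∧
          ∃ e : L, e * e = 1 ∧ (g : Matrix (Fin 2) (Fin 2) L) ^ i = e • 1 := by
    intro g j hj ht
    rcases sl2_cases p j hj g ht with h | ⟨m, hm, h⟩
    · exact Or.inl h
    · refine Or.inr ⟨m, m / 2, hm, ?_, sq_one_scalar h2 g ?_⟩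
      · obtain ⟨c, hc⟩ := (hp.odd_of_ne_two (by omega)).pow (n := j)
        rcases hm with rfl | rfl <;> omega
      · rwa [show 2 * (m / 2) = m by
          obtain ⟨c, hc⟩ := (hp.odd_of_ne_two (by omega)).pow (n := j)
          rcases hm with rfl | rfl <;> omega]
  have outerTrace : ∀ g : SL(2, L), ((twist p k g * g : SL(2, L)) : Matrix (Fin 2) (Fin 2) L).trace ^ p ^ k =
      ((twist p k g * g : SL(2, L)) : Matrix (Fin 2) (Fin 2) L).trace := by
    intro g
    have hσ : ∀ z : L, iterateFrobenius L p k (iterateFrobenius L p k z) = z := fun z => by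
      rw [iterateFrobenius_def, iterateFrobenius_def, ← pow_mul, ← pow_add, ← two_mul, ← hL, FiniteField.pow_card]
    rw [← iterateFrobenius_def]
    simp only [twist, Matrix.SpecialLinearGroup.coe_mul, Matrix.trace_fin_two, Matrix.mul_apply, Fin.sum_univ_two,
      Matrix.SpecialLinearGroup.map_apply_coe, RingHom.mapMatrix_apply, Matrix.map_apply, map_add, map_mul, hσ]
    ring
  have mdvd : ∀ {a : bigGroup p k hL} {m : ℕ}, (m = q - 1 ∨ m = q + 1) → orderOf a ∣ m →
      orderOf a ∈ spec p q ∧ orderOf a * p ∈ spec p q := by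
    intro a m hm h
    have h' := Nat.mul_dvd_mul_left p h
    rw [mul_comm p (orderOf a)] at h'
    rcases hm with rfl | rfl
    · exact ⟨Or.inr (Or.inr (Or.inl (h.trans (dvd_mul_left _ _)))), Or.inr (Or.inr (Or.inl h'))⟩
    · exact ⟨Or.inr (Or.inr (Or.inr (Or.inl (h.trans (dvd_mul_left _ _))))), Or.inr (Or.inr (Or.inr (Or.inl h')))⟩
  have p_mem : ∀ {n}, n ∣ 2 * p → n ∈ spec p q := fun {n} h => Or.inr (Or.inr (Or.inl (h.trans (by
    rw [mul_comm 2 p]
    exact Nat.mul_dvd_mul_left p (by obtain ⟨c, hc⟩ := hodd; omega)))))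
  refine exists_witness p ρ _ ?_ ?_ ?_ N
  · intro a
    obtain ⟨g, ha | ha⟩ := a.2
    · change ρ a = _ at ha
      rcases innerCases g (2 * k) (by omega) (by rw [← hL, FiniteField.pow_card]) with ⟨e, he, h⟩ | ⟨m, i, hm, hmi, h⟩
      · exact p_mem ((hord a p (by rw [ha]; exact (tensor_pow_one_iff p k g p).mpr ⟨e, he, h⟩)).trans (dvd_mul_left _ _))
      · have hd := hord a i (by rw [ha]; exact (tensor_pow_one_iff p k g i).mpr h)
        rw [hQ] at hm
        rcases hm with rfl | rfl
        · exact Or.inr (Or.inl (by rwa [show torM q = i by omega]))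
        · exact Or.inl (by rwa [show torP q = i by omega])
    · have hx : ∀ i, (∃ e : L, e * e = 1 ∧ ((twist p k g * g : SL(2, L)) : Matrix (Fin 2) (Fin 2) L) ^ i = e • 1) →
          orderOf a ∣ 2 * i := fun i h => hord a _ (by
        show ρ a ^ (2 * i) = 1
        change ρ a = _ at ha
        rw [ha, pow_mul, outer_sq p k hL]; exact (tensor_pow_one_iff p k _ i).mpr h)
      rcases innerCases _ k hk (outerTrace g) with h | ⟨m, i, hm, hmi, h⟩
      · exact p_mem (hx p h)
      · exact (mdvd hm (hmi ▸ hx i h)).1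
  · intro a htr
    obtain ⟨g, ha | ha⟩ := a.2
    · have hρa : ρ a = tensor p k g := ha
      obtain ⟨v, hv, hfix⟩ := exists_fixed_of_tr_ne ρ a htr
      rw [hρa] at hfix
      rcases innerCases g k hk (trace_fixed p k g hv hfix) with ⟨e, he, h⟩ | ⟨m, i, hm, hmi, h⟩
      · have hd : orderOf a ∣ p := hord a p (by rw [hρa]; exact (tensor_pow_one_iff p k g p).mpr ⟨e, he, h⟩)
        rcases (Nat.dvd_prime hp).mp hd with h1 | h1
        · rw [h1, one_mul]; exact p_mem (dvd_mul_left _ _)
        · exact absurd (by rw [tr, h1, hρa]; exact tensor_unipotent p k (by omega) g he h) htr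
      · exact (mdvd hm ((hord a i (by rw [hρa]; exact (tensor_pow_one_iff p k g i).mpr h)).trans (hmi ▸ dvd_mul_left _ _))).2
    · have hρa : ρ a = swapM * tensor p k g := ha
      rcases innerCases _ k hk (outerTrace g) with ⟨e, he, h⟩ | ⟨m, i, hm, hmi, h⟩
      · have hd : orderOf a ∣ 2 * p := hord a _ (by
          rw [hρa, pow_mul, outer_sq p k hL]; exact (tensor_pow_one_iff p k _ p).mpr ⟨e, he, h⟩)
        obtain ⟨r, hr, -⟩ := outer_pow p k hL g (n := orderOf a) (by rw [← hρa]; exact hone a)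
        rw [hr] at hd
        rcases (Nat.dvd_prime hp).mp (Nat.dvd_of_mul_dvd_mul_left two_pos hd) with h1 | h1
        · rw [hr, h1, mul_one]; exact p_mem dvd_rfl
        · exact absurd (by rw [tr, hr, h1, hρa, geom_double, outer_sq p k hL, tensor_unipotent p k (by omega) _ he h, Matrix.mul_zero]) htr
      · exact (mdvd hm (hord a m (by rw [hρa, ← hmi, pow_mul, outer_sq p k hL]; exact (tensor_pow_one_iff p k _ i).mpr h))).2
  · obtain ⟨γ, hγ⟩ := IsCyclic.exists_generator (α := Lˣ)
    have hγo : orderOf γ = q ^ 2 - 1 := by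
      rw [orderOf_eq_card_of_forall_mem_zpowers hγ, Nat.card_eq_fintype_card, Fintype.card_units, hL, hQ]
    have hinner : ∀ g : SL(2, L), ∃ u : bigGroup p k hL, ρ u = tensor p k g := fun g =>
      ⟨⟨(tensor p k).toHomUnits g, g, Or.inl rfl⟩, rfl⟩
    have houter : ∀ g : SL(2, L), ∃ u : bigGroup p k hL, ρ u = swapM * tensor p k g := fun g =>
      ⟨⟨(⟨swapM, swapM, swapM_mul_swapM, swapM_mul_swapM⟩ : (Matrix (Fin 2 × Fin 2) (Fin 2 × Fin 2) L)ˣ) * (tensor p k).toHomUnits g,
        g, Or.inr rfl⟩, rfl⟩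
    have big : ∀ {T : ℕ}, (T = torP q ∨ T = torM q) → ∃ a : bigGroup p k hL, T ∣ orderOf a := by
      intro T hT
      have hcast : ((2 * T : ℕ) : L) ≠ 0 := by
        have hz : (q : L) = 0 := by rw [hq, Nat.cast_pow, CharP.cast_eq_zero, zero_pow hk]
        rcases hT with rfl | rfl
        · rw [hPev.1]; simp [hz]
        · rw [hPev.2, Nat.cast_sub hq2]; simp [hz]
      obtain ⟨t, ht, -⟩ := exists_elem (L := L) p k (2 * k) hL hcast
        (by rw [hQ]; rcases hT with rfl | rfl <;> simp [hPev])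
      obtain ⟨a, ha⟩ := hinner (CfsgLib.SL2.companion t)
      obtain ⟨e, he, hn⟩ := (tensor_pow_one_iff p k _ _).mp (ha ▸ hone a)
      exact ⟨a, Nat.dvd_of_mul_dvd_mul_left two_pos (ht _ e he hn).1⟩
    have mixed : ∀ {m : ℕ} (g : SL(2, L)) (v : Fin 2 × Fin 2 → L) (w w' : L), (m = q - 1 ∨ m = q + 1) →
        ((twist p k g * g : SL(2, L)) : Matrix (Fin 2) (Fin 2) L) = Matrix.diagonal ![w, w'] → orderOf w = m →
        v ≠ 0 → (swapM * tensor p k g) *ᵥ v = v → ∃ a : bigGroup p k hL, tr ρ a ≠ 0 ∧ p * m ∣ orderOf a * p := by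
      intro m g v w w' hm hgg hw hv hfix
      have key : ∀ (i : ℕ) (e : L), e * e = 1 → ((twist p k g * g : SL(2, L)) : Matrix (Fin 2) (Fin 2) L) ^ i = e • 1 → m ∣ 2 * i := by
        intro i e he h
        have := congrFun (congrFun h 0) 0
        rw [hgg, Matrix.diagonal_pow] at this
        simp at this
        rw [← hw]
        exact orderOf_dvd_of_pow_eq_one (by rw [pow_mul', this, pow_two, he])
      obtain ⟨a, ha⟩ := houter g
      obtain ⟨r, hr, e, he, h⟩ := outer_pow p k hL g (n := orderOf a) (by rw [← ha]; exact hone a)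
      refine ⟨a, tr_ne_of_fixed ρ a hv (by rw [ha]; exact hfix) ?_, ?_⟩
      · rw [Ne, CharP.cast_eq_zero_iff L p]
        rcases innerCases _ k hk (outerTrace g) with ⟨e', he', h'⟩ | ⟨m', i, hm', hmi, h'⟩
        · exfalso
          have h1 := key p e' he' h'
          have hcop : ¬ p ∣ m := by
            intro hd
            have := (CharP.cast_eq_zero_iff L p m).mpr hd
            have hz : (q : L) = 0 := by rw [hq, Nat.cast_pow, CharP.cast_eq_zero, zero_pow hk]
            rcases hm with rfl | rfl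
            · rw [Nat.cast_sub (by omega)] at this; simp [hz] at this
            · simp [hz] at this
          have h3 := Nat.le_of_dvd two_pos (((hp.coprime_iff_not_dvd.mpr hcop).symm).dvd_of_dvd_mul_right h1)
          rcases hm with rfl | rfl <;> omega
        · intro hd
          have hd' : p ∣ m' := hd.trans (hord a m' (by rw [ha, ← hmi, pow_mul, outer_sq p k hL]; exact (tensor_pow_one_iff p k _ i).mpr h'))
          have := (CharP.cast_eq_zero_iff L p m').mpr hd'
          have hz : ((p ^ k : ℕ) : L) = 0 := by rw [Nat.cast_pow, CharP.cast_eq_zero, zero_pow hk]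
          rcases hm' with rfl | rfl
          · rw [Nat.cast_sub (Nat.one_le_pow _ _ hp.pos), hz] at this; simp at this
          · rw [Nat.cast_add, hz] at this; simp at this
      · rw [mul_comm p m]
        exact Nat.mul_dvd_mul_right (hr ▸ key r e he h) p
    have hσ : ∀ z : L, iterateFrobenius L p k z = z ^ q := fun z => iterateFrobenius_def ..
    have hdiv : q ^ 2 - 1 = (q + 1) * (q - 1) := by rw [← Nat.sq_sub_sq q 1, one_pow]
    rintro n (h | h | h | h | h)
    · obtain ⟨a, ha⟩ := big (Or.inl rfl); exact Or.inl ⟨a, h.trans ha⟩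
    · obtain ⟨a, ha⟩ := big (Or.inr rfl); exact Or.inl ⟨a, h.trans ha⟩
    · have hγ0 : (γ : L) ≠ 0 := γ.ne_zero
      have hdet : (Matrix.diagonal ![(γ : L), (γ : L)⁻¹]).det = 1 := by simp
      obtain ⟨a, ha, hd⟩ := mixed (m := q - 1) ⟨_, hdet⟩
        (!![0, (γ : L) ^ (q - 1); 1, 0] : Matrix (Fin 2) (Fin 2) L).vec ((γ : L) ^ q * γ) (((γ : L)⁻¹) ^ q * (γ : L)⁻¹) (Or.inl rfl)
        (by rw [diag_twist p k _ _ hdet, hσ, hσ])
        (by rw [← pow_succ, ← Units.val_pow_eq_pow_val, orderOf_units, orderOf_pow, hγo, hdiv, Nat.gcd_mul_right_left, Nat.mul_div_cancel_left _ (by omega)])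
        (fun h => by have := congrFun h (0, 1); simp [Matrix.vec] at this)
        (fixed_swap p k _ (by
          show (Matrix.diagonal ![(γ : L), (γ : L)⁻¹] * _ * ((Matrix.diagonal ![(γ : L), (γ : L)⁻¹]).map _)ᵀ)ᵀ = _
          have hqq : (γ : L) ^ q = (γ : L) ^ (q - 1) * (γ : L) := by rw [← pow_succ, Nat.sub_add_cancel (by omega)]
          have hq0 : q ≠ 0 := by omega
          ext i j
          fin_cases i <;> fin_cases j <;> simp [Matrix.mul_apply, Fin.sum_univ_two, hσ, hq0]
          all_goals first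
            | (rw [hqq]; exact (field_aux hγ0 (pow_ne_zero _ hγ0)).1)
            | (rw [hqq]; exact (field_aux hγ0 (pow_ne_zero _ hγ0)).2.1)))
      exact Or.inr ⟨a, ha, h.trans hd⟩
    · set r := 1 + (q + 1) / 2 with hr
      set b : L := (γ : L) ^ r with hb
      have hb0 : b ≠ 0 := pow_ne_zero _ γ.ne_zero
      have hneg : (γ : L) ^ ((q + 1) / 2 * (q - 1)) = -1 := by
        have hne : (γ : L) ^ ((q + 1) / 2 * (q - 1)) ≠ 1 := by
          intro h1
          rw [← Units.val_pow_eq_pow_val, Units.val_eq_one, ← orderOf_dvd_iff_pow_eq_one, hγo, hdiv] at h1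
          have := Nat.le_of_dvd (Nat.mul_pos (Nat.div_pos (by omega) two_pos) (by omega)) h1
          have hlt : (q + 1) / 2 * (q - 1) < (q + 1) * (q - 1) := Nat.mul_lt_mul_of_pos_right (by omega) (by omega)
          omega
        have hsq : (γ : L) ^ ((q + 1) / 2 * (q - 1)) * (γ : L) ^ ((q + 1) / 2 * (q - 1)) = 1 := by
          rw [← pow_add, ← Units.val_pow_eq_pow_val, Units.val_eq_one, ← orderOf_dvd_iff_pow_eq_one, hγo, hdiv]
          rw [← add_mul, show (q + 1) / 2 + (q + 1) / 2 = q + 1 by obtain ⟨c, hc⟩ := hodd; omega]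
        exact (mul_self_eq_one_iff.mp hsq).resolve_left hne
      have hw : -(b ^ (q - 1)) = (γ : L) ^ (q - 1) := by
        rw [hb, hr, ← pow_mul, add_mul, one_mul, pow_add, hneg]; ring
      have hbq : b ^ q = b ^ (q - 1) * b := by rw [← pow_succ, Nat.sub_add_cancel (by omega)]
      have hdet : (!![0, b; -b⁻¹, 0] : Matrix (Fin 2) (Fin 2) L).det = 1 := by
        rw [Matrix.det_fin_two_of, zero_mul, zero_sub, mul_neg, neg_neg, mul_inv_cancel₀ hb0]
      have hw' : -(b ^ q * b⁻¹) = (γ : L) ^ (q - 1) := by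
        rw [hbq, mul_assoc, mul_inv_cancel₀ hb0, mul_one, hw]
      obtain ⟨a, ha, hd⟩ := mixed (m := q + 1) ⟨_, hdet⟩
        (!![b ^ (q + 1), 0; 0, 1] : Matrix (Fin 2) (Fin 2) L).vec (-(b ^ q * b⁻¹)) (-((b ^ q)⁻¹ * b)) (Or.inr rfl)
        (by rw [anti_twist p k _ hdet, hσ])
        (by rw [hw', ← Units.val_pow_eq_pow_val, orderOf_units, orderOf_pow, hγo, hdiv, mul_comm (q + 1), Nat.gcd_mul_right_left, Nat.mul_div_cancel_left _ (by omega)])
        (fun h => by have := congrFun h (1, 1); simp [Matrix.vec] at this)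
        (fixed_swap p k _ (by
          show ((!![0, b; -b⁻¹, 0] : Matrix (Fin 2) (Fin 2) L) * _ * ((!![0, b; -b⁻¹, 0] : Matrix (Fin 2) (Fin 2) L).map _)ᵀ)ᵀ = _
          have hq0 : q ≠ 0 := by omega
          ext i j
          fin_cases i <;> fin_cases j <;> simp [Matrix.vecMul, dotProduct, Fin.sum_univ_two, hσ, hq0, pow_succ, hb0]
          all_goals first
            | exact mul_comm _ _
            | (rw [hodd.neg_pow, inv_pow, mul_comm (b ^ q) b, ← mul_assoc]; exact (field_aux hb0 (pow_ne_zero q hb0)).2.2)))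
      exact Or.inr ⟨a, ha, h.trans hd⟩
    · have hex : ex p = p := by rw [ex, if_neg (by omega), if_neg (by omega)]
      obtain ⟨a, ha⟩ := hinner 1
      refine Or.inr ⟨a, ?_, ?_⟩
      · have h1 : orderOf a = 1 := orderOf_eq_one_iff.mpr (hinj (by rw [ha, map_one, map_one]))
        rw [tr, h1, Finset.sum_range_one, pow_zero]
        exact one_ne_zero
      · exact (hex ▸ h).trans (dvd_mul_left _ _)

end CfsgLib.Spectrum.PSpFour
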