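import Cfsg.Prelude.Def_Classical
import Cfsg.Agent.Lib.Classical.SympCompanion
import Cfsg.Agent.Lib.FormRep.Symplectic
import Cfsg.Agent.Lib.Spectrum.PSpFour.Poly

/-!
The element orders of `PSp(4, q)` divide one of five numbers.
-/

set_option autoImplicit false
set_option linter.unusedSectionVars false
set_option linter.style.haveILetI false
set_option linter.style.longLine false

namespace CfsgLib.Spectrum.PSpFour

open Matrix Polynomial

/-- The unipotent exponent. -/
def ex (p : ℕ) : ℕ := if p = 2 then 4 else if p = 3 then 9 else p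

theorem ex_spec {p : ℕ} (hp : p.Prime) : ∃ j, ex p = p ^ j ∧ 4 ≤ p ^ j := by
  rcases eq_or_ne p 2 with rfl | h2
  · exact ⟨2, rfl, le_rfl⟩
  rcases eq_or_ne p 3 with rfl | h3
  · exact ⟨2, rfl, by norm_num⟩
  refine ⟨1, by rw [ex, if_neg h2, if_neg h3, pow_one], ?_⟩
  rw [pow_one]
  rcases Nat.lt_or_ge p 4 with h | h
  · have := hp.two_le; omega
  · exact h

/-- The set of element orders, by maximal ones. -/
def spec (p q : ℕ) : Set ℕ :=
  {n | n ∣ torP q ∨ n ∣ torM q ∨ n ∣ p * (q - 1) ∨ n ∣ p * (q + 1) ∨ n ∣ ex p}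

variable {F : Type*} [Field F] [Fintype F]

theorem orderOf_mem_spec (p k : ℕ) [hp : Fact p.Prime] [CharP F p] (hk : k ≠ 0) (hF : Fintype.card F = p ^ k)
    (x : Cfsg.PSp 2 F) : orderOf x ∈ spec p (p ^ k) := by
  classical
  obtain ⟨g, rfl⟩ := QuotientGroup.mk_surjective x
  set A := (g : Matrix (Fin 2 ⊕ Fin 2) (Fin 2 ⊕ Fin 2) F) with hA
  obtain ⟨h0, hrev⟩ := CfsgLib.Classical.SympCompanion.charpoly_palindromic g
  have hd : A.charpoly.natDegree = 4 := by rw [Matrix.charpoly_natDegree_eq_dim]; rfl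
  have h4 : A.charpoly.coeff 4 = 1 := by rw [← hd]; exact A.charpoly_monic
  have h31 : A.charpoly.coeff 3 = A.charpoly.coeff 1 := by
    conv_rhs => rw [← hrev]
    rw [Polynomial.coeff_reverse, hd]
    rfl
  set a := A.charpoly.coeff 1
  set b := A.charpoly.coeff 2
  have hcp : A.charpoly = X ^ 4 + C a * X ^ 3 + C b * X ^ 2 + C a * X + 1 := by
    conv_lhs => rw [A.charpoly.as_sum_range_C_mul_X_pow, hd]
    simp only [Finset.sum_range_succ, Finset.sum_range_zero, h4, h31, hA ▸ h0, map_one]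
    ring
  let φ := algebraMap F (AlgebraicClosure F)
  haveI : CharP (AlgebraicClosure F) p := charP_of_injective_algebraMap φ.injective p
  have hfix : ∀ c : F, φ c ^ p ^ k = φ c := fun c => by rw [← map_pow, ← hF, FiniteField.pow_card]
  obtain ⟨s, hs⟩ : ∃ s : AlgebraicClosure F, s ^ 2 - φ a * s + (φ b - 2) = 0 := by
    have hdeg : (C (1 : AlgebraicClosure F) * X ^ 2 + C (-φ a) * X + C (φ b - 2)).degree ≠ 0 := by
      rw [degree_quadratic one_ne_zero]; decide
    obtain ⟨s, hs⟩ := IsAlgClosed.exists_root _ hdeg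
    exact ⟨s, by simpa [sub_eq_add_neg] using hs⟩
  have hfac : quad s * quad (φ a - s) = A.charpoly.map φ := by
    have hb : φ b = s * (φ a - s) + 2 := by linear_combination hs
    rw [hcp]
    simp only [quad, Polynomial.map_add, Polynomial.map_mul, Polynomial.map_pow, map_X, map_C, Polynomial.map_one,
      hb, map_add, map_sub, map_mul, map_ofNat]
    ring
  have hst : (s ^ p ^ k = s ∧ (φ a - s) ^ p ^ k = φ a - s) ∨
      (s ^ p ^ k = φ a - s ∧ (φ a - s) ^ p ^ k = s ∧ s ≠ φ a - s) := by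
    have e : ∀ z, (φ a - z) ^ p ^ k = φ a - z ^ p ^ k := fun z => by
      rw [sub_eq_add_neg, frob_add p k, frob_neg p k, hfix, ← sub_eq_add_neg]
    have h := congrArg (· ^ p ^ k) hs
    simp only [sub_eq_add_neg, frob_add p k, frob_neg p k, mul_pow, hfix, ← pow_mul] at h
    rw [show (2 : AlgebraicClosure F) = φ 2 from (map_ofNat φ 2).symm] at hs h
    rw [hfix, zero_pow (pow_ne_zero k hp.out.ne_zero), mul_comm 2, pow_mul] at h
    have h' : (s ^ p ^ k - s) * (s ^ p ^ k - (φ a - s)) = 0 := by linear_combination h - hs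
    by_cases hss : s ^ p ^ k = s
    · exact Or.inl ⟨hss, by rw [e, hss]⟩
    · have h2 : s ^ p ^ k = φ a - s := sub_eq_zero.mp ((mul_eq_zero.mp h').resolve_left (sub_ne_zero.mpr hss))
      exact Or.inr ⟨h2, by rw [e, h2, sub_sub_cancel], fun h3 => hss (h2.trans h3.symm)⟩
  have hann : aeval (A.map φ) (quad s * quad (φ a - s)) = 0 := by
    rw [hfac, ← Matrix.charpoly_map, Matrix.aeval_self_charpoly]
  have pull : ∀ (n : ℕ) (e : AlgebraicClosure F), e * e = 1 → A.map φ ^ n = e • 1 →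
      (QuotientGroup.mk g : Cfsg.PSp 2 F) ^ n = 1 := by
    intro n e he hn
    obtain ⟨ε, rfl⟩ : ∃ ε : F, φ ε = e := by
      rcases mul_self_eq_one_iff.mp he with rfl | rfl
      · exact ⟨1, map_one φ⟩
      · exact ⟨-1, by rw [map_neg, map_one]⟩
    rw [← QuotientGroup.mk_pow, QuotientGroup.eq_one_iff, CfsgLib.FormRep.Symplectic.center_iff]
    refine ⟨ε, Matrix.map_injective φ.injective ?_⟩
    show ((g ^ n : Matrix.symplecticGroup (Fin 2) F) : Matrix (Fin 2 ⊕ Fin 2) (Fin 2 ⊕ Fin 2) F).map φ = _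
    rw [SubmonoidClass.coe_pow, ← hA]
    refine ((map_pow φ.mapMatrix A n).trans hn).trans ?_
    ext i j
    simp [Matrix.one_apply, apply_ite φ]
  rcases matrix_cases p k hk (A.map φ) hst hann with ⟨e, he, hj⟩ | ⟨m, hm, h1⟩ | ⟨n, hn, e, he, h1⟩
  · obtain ⟨j, hj1, hj4⟩ := ex_spec hp.out
    exact Or.inr (Or.inr (Or.inr (Or.inr (hj1 ▸ orderOf_dvd_of_pow_eq_one (pull _ e he (hj j hj4))))))
  · have := orderOf_dvd_of_pow_eq_one (pull (p * m) 1 (one_mul 1) (h1.trans (one_smul _ _).symm))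
    rcases hm with rfl | rfl
    · exact Or.inr (Or.inr (Or.inl this))
    · exact Or.inr (Or.inr (Or.inr (Or.inl this)))
  · have := orderOf_dvd_of_pow_eq_one (pull n e he h1)
    rcases hn with rfl | rfl
    · exact Or.inl this
    · exact Or.inr (Or.inl this)

end CfsgLib.Spectrum.PSpFour
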