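import Cfsg.Agent.Lib.Spectrum.PSpFour.Orders
import Cfsg.Agent.Lib.Spectrum.PSpFour.Roots
import Cfsg.Agent.Lib.Spectrum.SolvablePSpFourThree.PSp

/-!
The element orders of `PSp(4, q)`.
-/

set_option autoImplicit false
set_option linter.unusedSectionVars false
set_option linter.style.haveILetI false
set_option linter.style.longLine false

namespace CfsgLib.Spectrum.PSpFour

open Matrix Polynomial

variable {F : Type*} [Field F]

theorem exists_of_dvd {G : Type*} [Group G] [Finite G] {x : G} {n : ℕ} (h : n ∣ orderOf x) :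
    ∃ y : G, orderOf y = n :=
  ⟨x ^ (orderOf x / n), orderOf_pow_orderOf_div (orderOf_pos _).ne' h⟩

theorem mk_pow_eq_one (g : Matrix.symplecticGroup (Fin 2) F) {n : ℕ}
    (h : (QuotientGroup.mk g : Cfsg.PSp 2 F) ^ n = 1) :
    ∃ e : F, e * e = 1 ∧ (g : Matrix (Fin 2 ⊕ Fin 2) (Fin 2 ⊕ Fin 2) F) ^ n = e • 1 := by
  rw [← QuotientGroup.mk_pow, QuotientGroup.eq_one_iff, CfsgLib.FormRep.Symplectic.center_iff] at h
  obtain ⟨c, hc⟩ := h
  rw [SubmonoidClass.coe_pow] at hc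
  refine ⟨c, ?_, hc⟩
  have hm := SymplecticGroup.mem_iff.mp (g ^ n).2
  rw [SubmonoidClass.coe_pow, hc] at hm
  have := congrFun (congrFun hm (Sum.inl 0)) (Sum.inr 0)
  simpa [Matrix.J, Matrix.transpose_smul, Matrix.smul_mul, Matrix.mul_smul] using this

variable [Fintype F] (p k : ℕ) [hp : Fact p.Prime] [CharP F p]

theorem cast_torus {L : Type*} [Field L] [CharP L p] (hk : k ≠ 0) :
    (((p ^ k - 1 : ℕ) : L) ≠ 0 ∧ ((p ^ k + 1 : ℕ) : L) ≠ 0) ∧
      (((p ^ k) ^ 2 - 1 : ℕ) : L) ≠ 0 ∧ (((p ^ k) ^ 2 + 1 : ℕ) : L) ≠ 0 := by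
  have hz : ((p : L)) = 0 := CharP.cast_eq_zero L p
  have h1 : 1 ≤ p ^ k := Nat.one_le_pow _ _ hp.out.pos
  refine ⟨⟨?_, ?_⟩, ?_, ?_⟩
  · rw [Nat.cast_sub h1, Nat.cast_pow, hz, zero_pow hk]; simp
  · rw [Nat.cast_add, Nat.cast_pow, hz, zero_pow hk]; simp
  · rw [Nat.cast_sub (Nat.one_le_pow _ _ h1), Nat.cast_pow, Nat.cast_pow, hz, zero_pow hk]; simp
  · rw [Nat.cast_add, Nat.cast_pow, Nat.cast_pow, hz, zero_pow hk]; simp

theorem exists_torus (hk : k ≠ 0) (hF : Fintype.card F = p ^ k) {N : ℕ}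
    (hN : N = (p ^ k) ^ 2 + 1 ∨ N = (p ^ k) ^ 2 - 1) : ∃ y : Cfsg.PSp 2 F, orderOf y = N / cen (p ^ k) := by
  set φ := algebraMap F (AlgebraicClosure F)
  haveI : CharP (AlgebraicClosure F) p := charP_of_injective_algebraMap φ.injective p
  have hNL : (N : AlgebraicClosure F) ≠ 0 := by
    rcases hN with rfl | rfl
    · exact (cast_torus p k hk).2.2
    · exact (cast_torus p k hk).2.1
  have hq2 : 1 ≤ (p ^ k) ^ 2 := Nat.one_le_pow _ _ (pow_pos hp.out.pos k)
  obtain ⟨x, hx⟩ := exists_orderOf (L := AlgebraicClosure F) N hNL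
  have hN0 : 0 < N := Nat.pos_of_ne_zero fun e => hNL (by rw [e, Nat.cast_zero])
  have hxN : x ^ N = 1 := hx ▸ pow_orderOf_eq_one x
  have hx0 : x ≠ 0 := fun e => by rw [e, zero_pow hN0.ne'] at hxN; exact zero_ne_one hxN
  have h : x ^ (p ^ k) ^ 2 = x ∨ x ^ (p ^ k) ^ 2 = x⁻¹ := by
    rcases hN with rfl | rfl
    · exact Or.inr (eq_inv_of_mul_eq_one_left (by rw [← pow_succ, hxN]))
    · exact Or.inl (by rw [← Nat.sub_add_cancel hq2, pow_succ, hxN, one_mul])
  obtain ⟨g, hg⟩ := exists_symplectic p k φ hF hx0 h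
  refine exists_of_dvd (x := (QuotientGroup.mk g : Cfsg.PSp 2 F)) ?_
  set n := orderOf (QuotientGroup.mk g : Cfsg.PSp 2 F)
  obtain ⟨e, he, hn⟩ := mk_pow_eq_one g (n := n) (pow_orderOf_eq_one _)
  obtain ⟨h2, h1⟩ := eigen_dvd φ _ hg he hn
  rw [hx] at h1 h2
  rcases cen_torus p k hk with ⟨rfl, hc⟩ | ⟨ho, hc⟩ <;> rw [hc]
  · rw [Nat.div_one]
    refine h1 ?_
    rcases mul_self_eq_one_iff.mp he with rfl | rfl
    · rfl
    · exact CharTwo.neg_eq 1
  · have h2N : 2 ∣ N := by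
      obtain ⟨c, hc'⟩ := ho.mul ho
      rcases hN with rfl | rfl <;> rw [pow_two] <;> omega
    rw [← Nat.mul_div_cancel' h2N] at h2
    exact Nat.dvd_of_mul_dvd_mul_left two_pos h2

/-- Two blocks of size two. -/
def pairM (A : Matrix (Fin 2) (Fin 2) F × Matrix (Fin 2) (Fin 2) F) : Matrix (Fin 2 ⊕ Fin 2) (Fin 2 ⊕ Fin 2) F :=
  fromBlocks (diagonal ![A.1 0 0, A.2 0 0]) (diagonal ![A.1 0 1, A.2 0 1])
    (diagonal ![A.1 1 0, A.2 1 0]) (diagonal ![A.1 1 1, A.2 1 1])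

/-- `pairM` as a homomorphism. -/
def pair : (Matrix (Fin 2) (Fin 2) F × Matrix (Fin 2) (Fin 2) F) →* Matrix (Fin 2 ⊕ Fin 2) (Fin 2 ⊕ Fin 2) F where
  toFun := pairM
  map_one' := by
    rw [pairM, ← fromBlocks_one]
    congr 1 <;> ext i j <;> fin_cases i <;> fin_cases j <;> simp
  map_mul' A B := by
    rw [pairM, pairM, pairM, fromBlocks_multiply]
    congr 1 <;> rw [diagonal_mul_diagonal, diagonal_mul_diagonal, diagonal_add] <;> congr 1 <;>
      funext i <;> fin_cases i <;> simp [Matrix.mul_apply, Fin.sum_univ_two]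

theorem pair_mem (A B : Matrix.SpecialLinearGroup (Fin 2) F) :
    pair ((A : Matrix (Fin 2) (Fin 2) F), (B : Matrix (Fin 2) (Fin 2) F)) ∈ Matrix.symplecticGroup (Fin 2) F := by
  have hA := A.det_coe
  have hB := B.det_coe
  rw [Matrix.det_fin_two] at hA hB
  rw [SymplecticGroup.mem_iff]
  show pairM _ * _ * (pairM _)ᵀ = _
  rw [pairM, Matrix.J, fromBlocks_transpose, fromBlocks_multiply, fromBlocks_multiply]
  simp only [diagonal_transpose, Matrix.mul_zero, Matrix.mul_one, Matrix.mul_neg, zero_add, add_zero,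
    Matrix.neg_mul, diagonal_mul_diagonal, diagonal_add, diagonal_neg, ← diagonal_one, ← diagonal_zero]
  congr 1 <;> congr 1 <;> funext i <;> fin_cases i <;> simp <;>
    first | ring1 | linear_combination hA | linear_combination hB | linear_combination -hA | linear_combination -hB

theorem transvection_pow (n : ℕ) :
    (!![1, 1; 0, 1] : Matrix (Fin 2) (Fin 2) F) ^ n = !![1, (n : F); 0, 1] := by
  induction n with
  | zero => simp [Matrix.one_fin_two]
  | succ n ih => rw [pow_succ, ih, Matrix.mul_fin_two]; simp [add_comm]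

theorem exists_mixed (hk : k ≠ 0) (hF : Fintype.card F = p ^ k) {m : ℕ}
    (hm : m = p ^ k - 1 ∨ m = p ^ k + 1) : ∃ y : Cfsg.PSp 2 F, orderOf y = p * m := by
  set φ := algebraMap F (AlgebraicClosure F)
  haveI : CharP (AlgebraicClosure F) p := charP_of_injective_algebraMap φ.injective p
  have hmL : (m : AlgebraicClosure F) ≠ 0 := by
    rcases hm with rfl | rfl
    · exact (cast_torus p k hk).1.1
    · exact (cast_torus p k hk).1.2
  obtain ⟨x, hx⟩ := exists_orderOf (L := AlgebraicClosure F) m hmL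
  have hm0 : 0 < m := Nat.pos_of_ne_zero fun e => hmL (by rw [e, Nat.cast_zero])
  have hxm : x ^ m = 1 := hx ▸ pow_orderOf_eq_one x
  have hx0 : x ≠ 0 := fun e => by rw [e, zero_pow hm0.ne'] at hxm; exact zero_ne_one hxm
  have h : x ^ p ^ k = x ∨ x ^ p ^ k = x⁻¹ := by
    rcases hm with rfl | rfl
    · exact Or.inl (by rw [← Nat.sub_add_cancel (Nat.one_le_pow k p hp.out.pos), pow_succ, hxm, one_mul])
    · exact Or.inr (eq_inv_of_mul_eq_one_left (by rw [← pow_succ, hxm]))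
  obtain ⟨t, -, ht⟩ := exists_companion p k φ hF hx0 h
  let u : Matrix.SpecialLinearGroup (Fin 2) F := ⟨!![1, 1; 0, 1], by simp [Matrix.det_fin_two_of]⟩
  let g : Matrix.symplecticGroup (Fin 2) F := ⟨_, pair_mem (CfsgLib.SL2.companion t) u⟩
  refine exists_of_dvd (x := (QuotientGroup.mk g : Cfsg.PSp 2 F)) ?_
  set n := orderOf (QuotientGroup.mk g : Cfsg.PSp 2 F)
  obtain ⟨e, he, hn⟩ := mk_pow_eq_one g (n := n) (pow_orderOf_eq_one _)
  change (pair (_, _)) ^ n = _ at hn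
  rw [← map_pow, Prod.pow_mk] at hn
  have hu : (u : Matrix (Fin 2) (Fin 2) F) ^ n = !![1, (n : F); 0, 1] := transvection_pow n
  rw [hu] at hn
  have e1 : 1 = e := by
    have := congrFun (congrFun hn (Sum.inl 1)) (Sum.inl 1)
    simpa [pair, pairM] using this
  have hn0 : (n : F) = 0 := by
    have := congrFun (congrFun hn (Sum.inl 1)) (Sum.inr 1)
    simpa [pair, pairM] using this
  subst e1
  have hA : (CfsgLib.SL2.companion t : Matrix (Fin 2) (Fin 2) F) ^ n = (1 : F) • 1 := by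
    ext i j
    fin_cases i <;> fin_cases j
    · simpa [pair, pairM] using congrFun (congrFun hn (Sum.inl 0)) (Sum.inl 0)
    · simpa [pair, pairM] using congrFun (congrFun hn (Sum.inl 0)) (Sum.inr 0)
    · simpa [pair, pairM] using congrFun (congrFun hn (Sum.inr 0)) (Sum.inl 0)
    · simpa [pair, pairM] using congrFun (congrFun hn (Sum.inr 0)) (Sum.inr 0)
  have hmn : m ∣ n := hx ▸ (eigen_dvd φ _ ht (one_mul 1) hA).2 rfl
  refine Nat.Coprime.mul_dvd_of_dvd_of_dvd ?_ ((CharP.cast_eq_zero_iff F p n).mp hn0) hmn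
  rw [hp.out.coprime_iff_not_dvd, ← CharP.cast_eq_zero_iff (AlgebraicClosure F) p]
  exact hmL

omit [Fintype F] in
theorem orderOf_lift (φ : ZMod p →+* F) (M : Matrix (Fin 2 ⊕ Fin 2) (Fin 2 ⊕ Fin 2) (ZMod p))
    (hM : M * Matrix.J (Fin 2) (ZMod p) * Mᵀ = Matrix.J (Fin 2) (ZMod p)) {n : ℕ}
    (h1 : M ^ p ^ (n + 1) = 1) (h2 : ∀ c : ZMod p, M ^ p ^ n ≠ c • 1) :
    ∃ y : Cfsg.PSp 2 F, orderOf y = p ^ (n + 1) := by
  have hmem : M.map φ ∈ Matrix.symplecticGroup (Fin 2) F := by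
    rw [SymplecticGroup.mem_iff]
    have e : (Matrix.J (Fin 2) (ZMod p)).map φ = Matrix.J (Fin 2) F := by
      ext i j
      rcases i with i | i <;> rcases j with j | j <;> simp [Matrix.J, Matrix.one_apply, apply_ite φ]
    rw [← e, ← Matrix.transpose_map, ← Matrix.map_mul, ← Matrix.map_mul, hM]
  refine ⟨QuotientGroup.mk ⟨M.map φ, hmem⟩, orderOf_eq_prime_pow ?_ ?_⟩
  · intro hh
    obtain ⟨e, he, hn⟩ := mk_pow_eq_one _ hh
    obtain ⟨c, rfl⟩ : ∃ c, φ c = e := by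
      rcases mul_self_eq_one_iff.mp he with rfl | rfl
      · exact ⟨1, map_one φ⟩
      · exact ⟨-1, by rw [map_neg, map_one]⟩
    refine h2 c (Matrix.map_injective φ.injective ?_)
    refine ((map_pow φ.mapMatrix M _).trans hn).trans ?_
    ext i j
    simp [Matrix.one_apply, apply_ite φ]
  · rw [← QuotientGroup.mk_pow]
    refine (congrArg QuotientGroup.mk (Subtype.ext ?_)).trans (QuotientGroup.mk_one _)
    rw [SubmonoidClass.coe_pow]
    exact ((map_pow φ.mapMatrix M _).symm.trans (by rw [h1, map_one]; rfl))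

/-- An element of order four. -/
def m4 : Matrix (Fin 2 ⊕ Fin 2) (Fin 2 ⊕ Fin 2) (ZMod 2) :=
  Matrix.fromBlocks !![1, 0; 1, 1] !![1, 0; 1, 0] 0 !![1, 1; 0, 1]

set_option maxRecDepth 100000 in
theorem m4_facts : m4 * Matrix.J (Fin 2) (ZMod 2) * m4ᵀ = Matrix.J (Fin 2) (ZMod 2) ∧
    m4 ^ 4 = 1 ∧ ∀ c : ZMod 2, m4 ^ 2 ≠ c • 1 := by decide

set_option maxRecDepth 100000 in
set_option maxRecDepth 100000 in
theorem m9_one : SolvPSp43.m9 ^ 9 = 1 := by decide

theorem exists_ex (hk : k ≠ 0) (hF : Fintype.card F = p ^ k) : ∃ y : Cfsg.PSp 2 F, orderOf y = ex p := by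
  rcases eq_or_ne p 2 with rfl | h2
  · obtain ⟨a, b, c⟩ := m4_facts
    exact orderOf_lift 2 (ZMod.castHom dvd_rfl F) m4 a (n := 1) b c
  rcases eq_or_ne p 3 with rfl | h3
  · obtain ⟨a, -, hne⟩ := SolvPSp43.m9_facts
    exact orderOf_lift 3 (ZMod.castHom dvd_rfl F) SolvPSp43.m9 a (n := 1) m9_one fun c h => hne ⟨c, h⟩
  obtain ⟨y, hy⟩ := exists_mixed p k hk hF (Or.inl rfl)
  exact exists_of_dvd (x := y) (by rw [hy, ex, if_neg h2, if_neg h3]; exact dvd_mul_right _ _)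

/-- The element orders of `PSp(4, q)`. -/
theorem range_orderOf (hk : k ≠ 0) (hF : Fintype.card F = p ^ k) :
    Set.range (orderOf : Cfsg.PSp 2 F → ℕ) = spec p (p ^ k) := by
  classical
  refine Set.Subset.antisymm (Set.range_subset_iff.mpr fun x => orderOf_mem_spec p k hk hF x) ?_
  rintro n (h | h | h | h | h)
  · obtain ⟨y, hy⟩ := exists_torus (F := F) p k hk hF (Or.inl rfl)
    exact exists_of_dvd (x := y) (by rw [hy]; exact h)
  · obtain ⟨y, hy⟩ := exists_torus (F := F) p k hk hF (Or.inr rfl)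
    exact exists_of_dvd (x := y) (by rw [hy]; exact h)
  · obtain ⟨y, hy⟩ := exists_mixed (F := F) p k hk hF (Or.inl rfl)
    exact exists_of_dvd (x := y) (by rw [hy]; exact h)
  · obtain ⟨y, hy⟩ := exists_mixed (F := F) p k hk hF (Or.inr rfl)
    exact exists_of_dvd (x := y) (by rw [hy]; exact h)
  · obtain ⟨y, hy⟩ := exists_ex (F := F) p k hk hF
    exact exists_of_dvd (x := y) (by rw [hy]; exact h)

end CfsgLib.Spectrum.PSpFour
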