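import Cfsg.Agent.Lib.SL2.PSL
import Cfsg.Agent.Lib.Spectrum.PSpFour.Orders
import Cfsg.Agent.Lib.Spectrum.PSpFour.Twisted
import Cfsg.Agent.Lib.Spectrum.PSpFour.Witness

/-!
Extensions of `PSL(2, q ^ 2)` isospectral to `PSp(4, q)`, for `q` an even power of three.
-/

set_option autoImplicit false
set_option linter.unusedSectionVars false
set_option linter.style.haveILetI false
set_option linter.style.longLine false

namespace CfsgLib.Spectrum.PSpFour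

open Matrix Polynomial
open scoped Kronecker MatrixGroups

variable {K : Type*} [Field K]

theorem kron_mulVec {ι κ : Type*} [Fintype ι] [Fintype κ] (A : Matrix ι ι K) (B : Matrix κ κ K) (u : ι → K)
    (w : κ → K) : (A ⊗ₖ B) *ᵥ (fun x => u x.1 * w x.2) = fun x => (A *ᵥ u) x.1 * (B *ᵥ w) x.2 := by
  funext x
  simp only [mulVec, dotProduct, kroneckerMap_apply, Fintype.sum_prod_type, Finset.sum_mul_sum]
  exact Finset.sum_congr rfl fun i _ => Finset.sum_congr rfl fun j _ => by ring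

/-- Splitting a common eigenvector along one more operator. -/
theorem exists_eig {κ : Type*} [Fintype κ] [DecidableEq κ] {M : Matrix κ κ K} {x y : K}
    (hM : (M - x • 1) * (M - y • 1) = 0) (l : List (Matrix κ κ K × K)) (hl : ∀ a ∈ l, Commute a.1 M)
    {v : κ → K} (hv : v ≠ 0) (h : ∀ a ∈ l, a.1 *ᵥ v = a.2 • v) :
    ∃ w : κ → K, w ≠ 0 ∧ (∀ a ∈ l, a.1 *ᵥ w = a.2 • w) ∧ (M *ᵥ w = x • w ∨ M *ᵥ w = y • w) := by
  by_cases hy : (M - y • 1) *ᵥ v = 0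
  · refine ⟨v, hv, h, Or.inr ?_⟩
    rwa [sub_mulVec, smul_mulVec, one_mulVec, sub_eq_zero] at hy
  · refine ⟨_, hy, fun a ha => ?_, Or.inl ?_⟩
    · have hc : Commute a.1 (M - y • 1) := (hl a ha).sub_right ((Commute.one_right _).smul_right y)
      rw [mulVec_mulVec, hc.eq, ← mulVec_mulVec, h a ha, mulVec_smul]
    · have : (M - x • 1) *ᵥ ((M - y • 1) *ᵥ v) = 0 := by rw [mulVec_mulVec, hM, zero_mulVec]
      rwa [sub_mulVec, smul_mulVec, one_mulVec, sub_eq_zero] at this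

/-- Four factors. -/
abbrev kron4 (A B C D : Matrix (Fin 2) (Fin 2) K) : Matrix ((Fin 2 × Fin 2) × (Fin 2 × Fin 2)) ((Fin 2 × Fin 2) × (Fin 2 × Fin 2)) K :=
  (A ⊗ₖ B) ⊗ₖ (C ⊗ₖ D)

theorem kron_kills {ι κ : Type*} [Fintype ι] [Fintype κ] [DecidableEq ι] [DecidableEq κ] {M : Matrix ι ι K} {x y : K}
    (h : (M - x • 1) * (M - y • 1) = 0) :
    ((M ⊗ₖ (1 : Matrix κ κ K)) - x • 1) * ((M ⊗ₖ (1 : Matrix κ κ K)) - y • 1) = 0 ∧
      (((1 : Matrix κ κ K) ⊗ₖ M) - x • 1) * (((1 : Matrix κ κ K) ⊗ₖ M) - y • 1) = 0 := by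
  have e1 : ∀ z : K, (M ⊗ₖ (1 : Matrix κ κ K)) - z • 1 = (M - z • 1) ⊗ₖ (1 : Matrix κ κ K) := fun z => by
    ext a b
    by_cases h1 : a.1 = b.1 <;> by_cases h2 : a.2 = b.2 <;>
      simp [Matrix.one_apply, Prod.ext_iff, h1, h2]
  have e2 : ∀ z : K, ((1 : Matrix κ κ K) ⊗ₖ M) - z • 1 = (1 : Matrix κ κ K) ⊗ₖ (M - z • 1) := fun z => by
    ext a b
    by_cases h1 : a.1 = b.1 <;> by_cases h2 : a.2 = b.2 <;>
      simp [Matrix.one_apply, Prod.ext_iff, h1, h2]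
  rw [e1, e1, e2, e2, ← mul_kronecker_mul, ← mul_kronecker_mul, h]
  simp

theorem weight_of_fixed {A B C D : Matrix (Fin 2) (Fin 2) K} {a a' b b' c c' d d' : K}
    (hA : (A - a • 1) * (A - a' • 1) = 0) (hB : (B - b • 1) * (B - b' • 1) = 0)
    (hC : (C - c • 1) * (C - c' • 1) = 0) (hD : (D - d • 1) * (D - d' • 1) = 0)
    {v : (Fin 2 × Fin 2) × (Fin 2 × Fin 2) → K} (hv : v ≠ 0) (h : kron4 A B C D *ᵥ v = v) :
    ∃ x y z w : K, (x = a ∨ x = a') ∧ (y = b ∨ y = b') ∧ (z = c ∨ z = c') ∧ (w = d ∨ w = d') ∧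
      x * y * (z * w) = 1 := by
  classical
  set I : Matrix (Fin 2 × Fin 2) (Fin 2 × Fin 2) K := 1 with hI
  set P : Matrix (Fin 2) (Fin 2) K := 1 with hP
  set T1 := (A ⊗ₖ P) ⊗ₖ I
  set T2 := (P ⊗ₖ B) ⊗ₖ I
  set T3 := I ⊗ₖ (C ⊗ₖ P)
  set T4 := I ⊗ₖ (P ⊗ₖ D)
  have hprod : kron4 A B C D = T1 * T2 * (T3 * T4) := by
    simp [T1, T2, T3, T4, kron4, I, P, ← mul_kronecker_mul]
  have hcomm : Commute T1 T2 ∧ Commute T1 T3 ∧ Commute T1 T4 ∧ Commute T2 T3 ∧ Commute T2 T4 ∧ Commute T3 T4 := by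
    simp [commute_iff_eq, T1, T2, T3, T4, I, P, ← mul_kronecker_mul]
  obtain ⟨c12, c13, c14, c23, c24, c34⟩ := hcomm
  have k1 : Commute (kron4 A B C D) T1 := by
    rw [hprod]; exact ((Commute.refl T1).mul_left c12.symm).mul_left (c13.symm.mul_left c14.symm)
  have k2 : Commute (kron4 A B C D) T2 := by
    rw [hprod]; exact (c12.mul_left (Commute.refl T2)).mul_left (c23.symm.mul_left c24.symm)
  have k3 : Commute (kron4 A B C D) T3 := by
    rw [hprod]; exact (c13.mul_left c23).mul_left ((Commute.refl T3).mul_left c34.symm)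
  have k4 : Commute (kron4 A B C D) T4 := by
    rw [hprod]; exact (c14.mul_left c24).mul_left (c34.mul_left (Commute.refl T4))
  obtain ⟨v1, hv1, f1, g1⟩ := exists_eig ((kron_kills (κ := Fin 2 × Fin 2) (kron_kills (κ := Fin 2) hA).1).1)
    [(kron4 A B C D, 1)] (by simpa using k1) hv (by simpa using h)
  obtain ⟨x, hx, ex⟩ : ∃ x, (x = a ∨ x = a') ∧ T1 *ᵥ v1 = x • v1 := by
    rcases g1 with g | g
    · exact ⟨a, Or.inl rfl, g⟩
    · exact ⟨a', Or.inr rfl, g⟩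
  obtain ⟨v2, hv2, f2, g2⟩ := exists_eig ((kron_kills (κ := Fin 2 × Fin 2) (kron_kills (κ := Fin 2) hB).2).1)
    [(kron4 A B C D, 1), (T1, x)] (by simpa using ⟨k2, c12⟩) hv1 (by simpa [ex] using f1)
  obtain ⟨y, hy, ey⟩ : ∃ y, (y = b ∨ y = b') ∧ T2 *ᵥ v2 = y • v2 := by
    rcases g2 with g | g
    · exact ⟨b, Or.inl rfl, g⟩
    · exact ⟨b', Or.inr rfl, g⟩
  obtain ⟨v3, hv3, f3, g3⟩ := exists_eig ((kron_kills (κ := Fin 2 × Fin 2) (kron_kills (κ := Fin 2) hC).1).2)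
    [(kron4 A B C D, 1), (T1, x), (T2, y)] (by simpa using ⟨k3, c13, c23⟩) hv2 (by simpa [ey] using f2)
  obtain ⟨z, hz, ez⟩ : ∃ z, (z = c ∨ z = c') ∧ T3 *ᵥ v3 = z • v3 := by
    rcases g3 with g | g
    · exact ⟨c, Or.inl rfl, g⟩
    · exact ⟨c', Or.inr rfl, g⟩
  obtain ⟨v4, hv4, f4, g4⟩ := exists_eig ((kron_kills (κ := Fin 2 × Fin 2) (kron_kills (κ := Fin 2) hD).2).2)
    [(kron4 A B C D, 1), (T1, x), (T2, y), (T3, z)] (by simpa using ⟨k4, c14, c24, c34⟩) hv3 (by simpa [ez] using f3)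
  obtain ⟨w, hw, ew⟩ : ∃ w, (w = d ∨ w = d') ∧ T4 *ᵥ v4 = w • v4 := by
    rcases g4 with g | g
    · exact ⟨d, Or.inl rfl, g⟩
    · exact ⟨d', Or.inr rfl, g⟩
  simp only [List.forall_mem_cons, List.not_mem_nil, false_implies, implies_true, and_true, one_smul] at f4
  obtain ⟨e0, e1, e2, e3⟩ := f4
  simp only [hprod, ← mulVec_mulVec, ew, mulVec_smul, e3, e2, e1, smul_smul] at e0
  refine ⟨x, y, z, w, hx, hy, hz, hw, ?_⟩
  have := smul_left_injective K hv4 (e0.trans (one_smul K v4).symm)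
  linear_combination this

theorem companion_eigen {L : Type*} [Field L] (φ : L →+* K) (t : L) {x : K} (hx : x ≠ 0) (ht : φ t = x + x⁻¹) :
    ((CfsgLib.SL2.companion t : Matrix (Fin 2) (Fin 2) L)).map φ *ᵥ ![1, -x] = x • ![1, -x] := by
  funext i
  fin_cases i <;> simp [CfsgLib.SL2.companion, mulVec, dotProduct, Fin.sum_univ_two, ht]
  field_simp
  ring

end CfsgLib.Spectrum.PSpFour
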