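import Cfsg.Agent.Lib.Spectrum.PSpFour.Three

/-!
The witness in characteristic three.
-/

set_option autoImplicit false
set_option linter.unusedSectionVars false
set_option linter.style.haveILetI false
set_option linter.style.longLine false

namespace CfsgLib.Spectrum.PSpFour

open Matrix Polynomial
open scoped Kronecker MatrixGroups

theorem kills {K : Type*} [Field K] {G : Matrix (Fin 2) (Fin 2) K} (hd : G.det = 1) {y : K} (hy : y ≠ 0)
    (ht : G.trace = y + y⁻¹) : (G - y • 1) * (G - y⁻¹ • 1) = 0 := by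
  have e : G * G = (y + y⁻¹) • G - (1 : K) • 1 := by rw [CfsgLib.SL2.cayley G, ht, hd]
  simp only [Matrix.sub_mul, Matrix.mul_sub, Matrix.smul_mul, Matrix.mul_smul, Matrix.one_mul, Matrix.mul_one,
    smul_sub, smul_smul, mul_inv_cancel₀ hy, inv_mul_cancel₀ hy, e, add_smul, one_smul]
  abel

theorem nine_ne (q m : ℕ) (h5 : q ^ 2 % 5 = 1) (h3 : 3 ∣ q) (hq : 1 ≤ q) (hm : m ∣ q ^ 2 - 1 ∨ m ∣ q ^ 2 + 1)
    (hd : m ∣ q ∨ m ∣ 2 * q ∨ m ∣ q - 1 ∨ m ∣ q + 1 ∨ m ∣ 2 * q - 1 ∨ m ∣ 2 * q + 1) (hodd : Odd q) :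
    m ∣ q - 1 ∨ m ∣ q + 1 := by
  have h2 : 2 ∣ q - 1 := by obtain ⟨c, hc⟩ := hodd; omega
  have hq2 : 1 ≤ q ^ 2 := Nat.one_le_pow _ _ hq
  have hmz : (m : ℤ) ∣ (q : ℤ) ^ 2 - 1 ∨ (m : ℤ) ∣ (q : ℤ) ^ 2 + 1 := by
    rcases hm with h | h
    · left; have := Int.natCast_dvd_natCast.mpr h; push_cast [Nat.cast_sub hq2] at this; exact this
    · right; have := Int.natCast_dvd_natCast.mpr h; push_cast at this; exact this
  have case2 : (m : ℤ) ∣ 2 * (q : ℤ) → m ∣ q - 1 := fun h => by
    refine dvd_trans ?_ h2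
    have h' : (m : ℤ) ∣ 2 * (q : ℤ) ^ 2 := by rw [pow_two, ← mul_assoc]; exact h.mul_right _
    have : (m : ℤ) ∣ 2 := by
      rcases hmz with a | a
      · have := dvd_sub h' (a.mul_left 2); ring_nf at this; exact this
      · have := dvd_sub (a.mul_left 2) h'; ring_nf at this; exact this
    exact Int.natCast_dvd_natCast.mp this
  have case4 : (m : ℤ) ∣ 4 * (q : ℤ) ^ 2 - 1 → m = 1 := fun h => by
    rcases hmz with a | a
    · have h' := dvd_sub h (a.mul_left 4)
      ring_nf at h'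
      have hm3 : m ∣ 3 := Int.natCast_dvd_natCast.mp h'
      rcases (Nat.dvd_prime Nat.prime_three).mp hm3 with e | e
      · exact e
      · subst e
        exfalso
        obtain ⟨c, hc⟩ := a
        obtain ⟨r, rfl⟩ := h3
        push_cast at hc
        have : (3 : ℤ) ∣ 1 := ⟨3 * (r : ℤ) ^ 2 - c, by linear_combination -hc⟩
        norm_num at this
    · have h' := dvd_sub (a.mul_left 4) h
      ring_nf at h'
      have hm5 : m ∣ 5 := Int.natCast_dvd_natCast.mp h'
      rcases (Nat.dvd_prime (by norm_num)).mp hm5 with e | e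
      · exact e
      · subst e
        exfalso
        have : 5 ∣ q ^ 2 + 1 := by
          have : ((5 : ℕ) : ℤ) ∣ ((q ^ 2 + 1 : ℕ) : ℤ) := by push_cast; exact_mod_cast a
          exact Int.natCast_dvd_natCast.mp this
        omega
  rcases hd with h | h | h | h | h | h
  · exact Or.inl (case2 (by have := Int.natCast_dvd_natCast.mpr h; exact this.mul_left 2))
  · exact Or.inl (case2 (by have := Int.natCast_dvd_natCast.mpr h; push_cast at this; exact this))
  · exact Or.inl h
  · exact Or.inr h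
  · refine Or.inl (?_ : m ∣ q - 1)
    suffices h4 : (m : ℤ) ∣ 4 * (q : ℤ) ^ 2 - 1 by rw [case4 h4]; exact one_dvd _
    have := Int.natCast_dvd_natCast.mpr h
    push_cast [Nat.cast_sub (show 1 ≤ 2 * q by omega)] at this
    rw [show 4 * (q : ℤ) ^ 2 - 1 = (2 * q - 1) * (2 * q + 1) by ring]
    exact this.mul_right _
  · refine Or.inl (?_ : m ∣ q - 1)
    suffices h4 : (m : ℤ) ∣ 4 * (q : ℤ) ^ 2 - 1 by rw [case4 h4]; exact one_dvd _
    have := Int.natCast_dvd_natCast.mpr h
    push_cast at this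
    rw [show 4 * (q : ℤ) ^ 2 - 1 = (2 * q - 1) * (2 * q + 1) by ring]
    exact this.mul_left _

/-- The fourfold twisted tensor product. -/
noncomputable def tensor4 {L : Type*} [Field L] [CharP L 3] (k : ℕ) :
    SL(2, L) →* Matrix ((Fin 2 × Fin 2) × (Fin 2 × Fin 2)) ((Fin 2 × Fin 2) × (Fin 2 × Fin 2)) L where
  toFun g := kron4 (g : Matrix (Fin 2) (Fin 2) L) g ((g : Matrix (Fin 2) (Fin 2) L).map (iterateFrobenius L 3 k))
    ((g : Matrix (Fin 2) (Fin 2) L).map (iterateFrobenius L 3 (k + 1)))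
  map_one' := by simp [kron4]
  map_mul' a b := by simp [kron4, Matrix.mul_kronecker_mul, Matrix.map_mul]

theorem kron4_map {L K : Type*} [Field L] [Field K] (φ : L →+* K) (A B C D : Matrix (Fin 2) (Fin 2) L) :
    (kron4 A B C D).map φ = kron4 (A.map φ) (B.map φ) (C.map φ) (D.map φ) := by
  ext i j
  simp [kron4]

theorem unipotent_three {L : Type} [Field L] [Fintype L] [DecidableEq L] [CharP L 3] (k : ℕ)
    (ρ : ProjectiveSpecialLinearGroup (Fin 2) L →* Matrix ((Fin 2 × Fin 2) × (Fin 2 × Fin 2)) ((Fin 2 × Fin 2) × (Fin 2 × Fin 2)) L)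
    (hρ : ∀ g : SL(2, L), ρ (CfsgLib.SL2.proj g) = tensor4 k g) :
    ∃ a, tr ρ a ≠ 0 ∧ ex 3 ∣ orderOf a * 3 := by
  let u : SL(2, L) := ⟨!![1, 1; 0, 1], by simp [Matrix.det_fin_two_of]⟩
  have h3 : (3 : L) = 0 := by exact_mod_cast CharP.cast_eq_zero L 3
  have h2 : (2 : L) ≠ 0 := fun h => one_ne_zero (α := L) (by linear_combination h3 - h)
  have hu : orderOf (CfsgLib.SL2.proj u) = 3 := by
    refine orderOf_eq_prime ?_ fun h => ?_
    · rw [← map_pow, CfsgLib.SL2.proj_eq_one_iff, CfsgLib.SL2.mem_center_iff_not_nonScalar]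
      intro hn
      refine hn 1 ?_
      rw [Matrix.SpecialLinearGroup.coe_pow, one_smul]
      show (!![1, 1; 0, 1] : Matrix (Fin 2) (Fin 2) L) ^ 3 = 1
      rw [pow_succ, pow_two, Matrix.mul_fin_two, Matrix.mul_fin_two, Matrix.one_fin_two]
      ext i j
      fin_cases i <;> fin_cases j <;> simp
      linear_combination h3
    · rw [CfsgLib.SL2.proj_eq_one_iff, CfsgLib.SL2.mem_center_iff_not_nonScalar] at h
      refine h fun c hc => ?_
      have := congrFun (congrFun hc 0) 1
      simp [u] at this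
  refine ⟨CfsgLib.SL2.proj u, fun h0 => h2 ?_, by rw [hu]; exact dvd_rfl⟩
  have hpw : ∀ n : ℕ, (u : Matrix (Fin 2) (Fin 2) L) ^ n = !![1, (n : L); 0, 1] := by
    intro n
    induction n with
    | zero => simp [Matrix.one_fin_two]
    | succ n ih =>
      rw [pow_succ, ih]
      show !![1, (n : L); 0, 1] * (!![1, 1; 0, 1] : Matrix (Fin 2) (Fin 2) L) = _
      rw [Matrix.mul_fin_two]; simp [add_comm]
  have he : ∀ n : ℕ, (ρ (CfsgLib.SL2.proj u) ^ n) ((0, 0), (0, 0)) ((1, 1), (0, 0)) = (n : L) * (n : L) := by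
    intro n
    rw [hρ, ← map_pow]
    simp [tensor4, kron4, Matrix.SpecialLinearGroup.coe_pow, hpw]
  have := congrFun (congrFun h0 ((0, 0), (0, 0))) ((1, 1), (0, 0))
  rw [tr, hu, Finset.sum_range_succ, Finset.sum_range_succ, Finset.sum_range_one, Matrix.add_apply, Matrix.add_apply,
    he, he, he] at this
  simp only [Nat.cast_zero, Nat.cast_one, Nat.cast_ofNat, Matrix.zero_apply] at this
  linear_combination this - h3

theorem mixed_three {L : Type} [Field L] [Fintype L] [DecidableEq L] [CharP L 3] (k : ℕ) (hk : k ≠ 0)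
    (hL : Fintype.card L = 3 ^ (2 * k))
    (ρ : ProjectiveSpecialLinearGroup (Fin 2) L →* Matrix ((Fin 2 × Fin 2) × (Fin 2 × Fin 2)) ((Fin 2 × Fin 2) × (Fin 2 × Fin 2)) L)
    (hρ : ∀ g : SL(2, L), ρ (CfsgLib.SL2.proj g) = tensor4 k g)
    (hproj : ∀ (g : SL(2, L)) (n : ℕ) (e : L), (g : Matrix (Fin 2) (Fin 2) L) ^ n = e • 1 →
      orderOf (CfsgLib.SL2.proj g) ∣ n) {m : ℕ} (hm : m = 3 ^ k - 1 ∨ m = 3 ^ k + 1) :
    ∃ a, tr ρ a ≠ 0 ∧ 3 * m ∣ orderOf a * 3 := by
  let φ := algebraMap L (AlgebraicClosure L)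
  haveI : CharP (AlgebraicClosure L) 3 := charP_of_injective_algebraMap φ.injective 3
  have hq : 1 ≤ 3 ^ k := Nat.one_le_pow _ _ (by norm_num)
  have hm2 : 2 ∣ m := by
    obtain ⟨c, hc⟩ := (show Odd 3 by decide).pow (n := k)
    rcases hm with rfl | rfl <;> omega
  have hm3 : ¬ 3 ∣ m := by
    obtain ⟨c, hc⟩ := dvd_pow_self 3 hk
    rcases hm with rfl | rfl <;> omega
  have hmK : ((2 * m : ℕ) : AlgebraicClosure L) ≠ 0 := by
    rw [Ne, CharP.cast_eq_zero_iff _ 3]
    omega
  obtain ⟨x, hx⟩ := exists_orderOf (L := AlgebraicClosure L) (2 * m) hmK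
  have hx0 : x ≠ 0 := fun e => by
    subst e; rw [orderOf_zero] at hx; exact hmK (by rw [← hx, Nat.cast_zero])
  have hxm : x ^ m * x ^ m = 1 := by rw [← pow_add, ← two_mul, ← hx, pow_orderOf_eq_one]
  have hQ : 2 * m ∣ 3 ^ (2 * k) - 1 := by
    rw [mul_comm 2 k, pow_mul, show (3 ^ k) ^ 2 - 1 = (3 ^ k + 1) * (3 ^ k - 1) by rw [← Nat.sq_sub_sq _ 1, one_pow]]
    obtain ⟨c, hc⟩ := (show Odd 3 by decide).pow (n := k)
    rcases hm with rfl | rfl
    · exact Nat.mul_dvd_mul_right (by omega) _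
    · rw [mul_comm]; exact Nat.mul_dvd_mul_left _ (by omega)
  have htw : x ^ 3 ^ (2 * k) = x ∨ x ^ 3 ^ (2 * k) = x⁻¹ := Or.inl (by
    rw [← Nat.sub_add_cancel (Nat.one_le_pow (2 * k) 3 (by norm_num)), pow_succ,
      orderOf_dvd_iff_pow_eq_one.mp (hx ▸ hQ), one_mul])
  obtain ⟨t, ht, hroot⟩ := exists_companion 3 (2 * k) φ hL hx0 htw
  set g := CfsgLib.SL2.companion t with hg
  refine ⟨CfsgLib.SL2.proj g, ?_, ?_⟩
  · have hcop : ((orderOf (CfsgLib.SL2.proj g) : ℕ) : L) ≠ 0 := by
      have hne : x ≠ x⁻¹ := fun e => by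
        have h2 : orderOf x ∣ 2 := orderOf_dvd_of_pow_eq_one (by rw [pow_two]; nth_rw 2 [e]; exact mul_inv_cancel₀ hx0)
        rw [hx] at h2
        have := Nat.le_of_dvd two_pos h2
        have : 3 ≤ 3 ^ k := Nat.le_self_pow hk 3
        rcases hm with rfl | rfl <;> omega
      have hd : orderOf (CfsgLib.SL2.proj g) ∣ m := by
        obtain ⟨ε, hε⟩ : ∃ ε, φ ε = x ^ m := by
          rcases mul_self_eq_one_iff.mp hxm with h | h <;> rw [h]
          · exact ⟨1, map_one φ⟩
          · exact ⟨-1, by rw [map_neg, map_one]⟩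
        obtain ⟨R, hR⟩ := quad_dvd hx0 hne (n := m) rfl (by rw [inv_pow, inv_eq_of_mul_eq_one_right hxm])
        set G := (g : Matrix (Fin 2) (Fin 2) L)
        have hk1 : (G.map φ - x • 1) * (G.map φ - x⁻¹ • 1) = 0 := by
          refine kills ?_ hx0 ?_
          · rw [← RingHom.mapMatrix_apply, ← RingHom.map_det, g.det_coe, map_one]
          · rw [← ht]; simp [G, g, CfsgLib.SL2.companion, Matrix.trace_fin_two]
        have h0 : aeval (G.map φ) (quad (-(x + x⁻¹))) = 0 := by
          rw [quad_eq hx0, map_mul, map_sub, map_sub, aeval_X, aeval_C, aeval_C,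
            Algebra.algebraMap_eq_smul_one, Algebra.algebraMap_eq_smul_one, hk1]
        have h := congrArg (aeval (G.map φ)) hR
        rw [map_mul, h0, zero_mul, map_sub, map_pow, aeval_X, aeval_C, sub_eq_zero,
          Algebra.algebraMap_eq_smul_one] at h
        refine hproj g m ε (Matrix.map_injective φ.injective (((map_pow φ.mapMatrix G m).trans h).trans ?_))
        ext i j
        simp [Matrix.one_apply, apply_ite φ, hε]
      rw [Ne, CharP.cast_eq_zero_iff L 3]
      exact fun h3 => hm3 (h3.trans hd)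
    set M := ρ (CfsgLib.SL2.proj g)
    have hdet : (M - 1).det = 0 := by
      refine φ.injective ?_
      rw [map_zero, RingHom.map_det, RingHom.mapMatrix_apply, ← Matrix.exists_mulVec_eq_zero_iff]
      have e0 : ∀ i, φ (t ^ 3 ^ i) = x ^ 3 ^ i + (x ^ 3 ^ i)⁻¹ := fun i => by
        rw [map_pow, ht, frob_add 3 i, inv_pow]
      have emap : ∀ i, ((g : Matrix (Fin 2) (Fin 2) L).map (iterateFrobenius L 3 i)).map φ =
          ((CfsgLib.SL2.companion (t ^ 3 ^ i) : SL(2, L)) : Matrix (Fin 2) (Fin 2) L).map φ := fun i => by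
        congr 1
        ext a b
        fin_cases a <;> fin_cases b <;> simp [g, CfsgLib.SL2.companion, ← iterateFrobenius_def]
      obtain ⟨a, ha, c, d, hw⟩ : ∃ a : AlgebraicClosure L, (a = x ∨ a = x⁻¹) ∧ ∃ c d : AlgebraicClosure L,
          c = (x ^ 3 ^ k)⁻¹ ∧ d = x ^ 3 ^ (k + 1) ∧ a * a * (c * d) = 1 := by
        rcases hm with rfl | rfl
        · refine ⟨x⁻¹, Or.inr rfl, _, _, rfl, rfl, ?_⟩
          have hu : x ^ 3 ^ k = x ^ (3 ^ k - 1) * x := by rw [← pow_succ, Nat.sub_add_cancel hq]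
          rw [pow_succ 3 k, pow_mul, hu]
          field_simp
          linear_combination hxm
        · refine ⟨x, Or.inl rfl, _, _, rfl, rfl, ?_⟩
          rw [pow_succ 3 k, pow_mul]
          rw [pow_succ x] at hxm
          field_simp
          linear_combination hxm
      obtain ⟨hc, hd, hw⟩ := hw
      have ea : ((g : Matrix (Fin 2) (Fin 2) L)).map φ *ᵥ ![1, -a] = a • ![1, -a] := by
        rcases ha with e | e <;> rw [e]
        · exact companion_eigen φ t hx0 ht
        · exact companion_eigen φ t (inv_ne_zero hx0) (by rw [inv_inv, ht, add_comm])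
      have ec : ((g : Matrix (Fin 2) (Fin 2) L).map (iterateFrobenius L 3 k)).map φ *ᵥ ![1, -c] = c • ![1, -c] := by
        rw [emap, hc]
        exact companion_eigen φ _ (inv_ne_zero (pow_ne_zero _ hx0)) (by rw [inv_inv, e0, add_comm])
      have ed : ((g : Matrix (Fin 2) (Fin 2) L).map (iterateFrobenius L 3 (k + 1))).map φ *ᵥ ![1, -d] = d • ![1, -d] := by
        rw [emap, hd]
        exact companion_eigen φ _ (pow_ne_zero _ hx0) (e0 _)
      refine ⟨fun i => ![1, -a] i.1.1 * ![1, -a] i.1.2 * (![1, -c] i.2.1 * ![1, -d] i.2.2), ?_, ?_⟩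
      · intro h
        have := congrFun h ((0, 0), (0, 0))
        simp at this
      · rw [Matrix.map_sub _ (map_sub φ), Matrix.map_one _ (map_zero φ) (map_one φ), sub_mulVec, one_mulVec, sub_eq_zero]
        simp only [M, hρ, tensor4, MonoidHom.coe_mk, OneHom.coe_mk, kron4_map]
        rw [kron4, kron_mulVec (_ ⊗ₖ _) (_ ⊗ₖ _) (fun i => ![1, -a] i.1 * ![1, -a] i.2) (fun i => ![1, -c] i.1 * ![1, -d] i.2),
          kron_mulVec, kron_mulVec, ea, ec, ed]
        funext i
        simp only [Pi.smul_apply, smul_eq_mul]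
        linear_combination ((![1, -a] i.1.1 * ![1, -a] i.1.2 * (![1, -c] i.2.1 * ![1, -d] i.2.2))) * hw
    obtain ⟨v, hv, hv1⟩ := Matrix.exists_mulVec_eq_zero_iff.mpr hdet
    rw [sub_mulVec, one_mulVec, sub_eq_zero] at hv1
    exact tr_ne_of_fixed ρ _ hv hv1 hcop
  · rw [mul_comm 3 m]
    refine Nat.mul_dvd_mul_right ?_ 3
    have h1 : CfsgLib.SL2.proj g ^ orderOf (CfsgLib.SL2.proj g) = 1 := pow_orderOf_eq_one _
    rw [← map_pow, CfsgLib.SL2.proj_eq_one_iff] at h1
    obtain ⟨e, he, hn⟩ : ∃ e : L, e * e = 1 ∧ (g : Matrix (Fin 2) (Fin 2) L) ^ orderOf (CfsgLib.SL2.proj g) = e • 1 := by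
      rcases CfsgLib.SL2.eq_one_or_eq_neg_one_of_mem_center _ h1 with h | h
      · exact ⟨1, one_mul 1, by rw [← Matrix.SpecialLinearGroup.coe_pow, h]; simp⟩
      · exact ⟨-1, by ring, by rw [← Matrix.SpecialLinearGroup.coe_pow, h]; simp⟩
    have := (eigen_dvd φ _ hroot he hn).1
    rw [hx] at this
    exact Nat.dvd_of_mul_dvd_mul_left two_pos this

theorem three_witness {k : ℕ} (hk : k ≠ 0) (he : Even k) (N : ℕ) :
    ∃ (H : Type) (_ : Group H) (_ : Fintype H), N < Fintype.card H ∧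
      Set.range (orderOf : H → ℕ) = spec 3 (3 ^ k) := by
  classical
  haveI : Fintype (GaloisField 3 (2 * k)) := Fintype.ofFinite _
  set L := GaloisField 3 (2 * k)
  have hL : Fintype.card L = 3 ^ (2 * k) := by
    rw [← Nat.card_eq_fintype_card]; exact GaloisField.card 3 _ (by omega)
  set q := 3 ^ k with hq
  have hQ : 3 ^ (2 * k) = q ^ 2 := by rw [hq, mul_comm, pow_mul]
  obtain ⟨j, rfl⟩ := he
  have hq9 : 9 ≤ q := by
    calc 9 = 3 ^ 2 := rfl
      _ ≤ q := Nat.pow_le_pow_right (by norm_num) (by omega)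
  have h5 : q ^ 2 % 5 = 1 := by
    rw [hq, ← pow_mul, show (j + j) * 2 = 4 * j by ring, pow_mul, Nat.pow_mod]
    norm_num
  have h3 : 3 ∣ q := dvd_pow_self 3 hk
  have hodd : Odd q := (by decide : Odd 3).pow
  have hc : cen q = 2 := by
    rcases cen_torus 3 (j + j) hk with ⟨h, -⟩ | ⟨-, h⟩
    · omega
    · exact h
  have hQ4 : 4 ≤ Nat.card L := by
    rw [Nat.card_eq_fintype_card, hL, hQ]
    exact le_trans (by omega) (Nat.le_self_pow two_ne_zero q)
  have hg : Nat.gcd 2 (Nat.card L - 1) = 2 := by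
    rw [Nat.card_eq_fintype_card, hL]
    obtain ⟨c, hc⟩ := (show Odd 3 by decide).pow (n := 2 * (j + j))
    exact Nat.gcd_eq_left (by omega)
  let φ := algebraMap L (AlgebraicClosure L)
  haveI : CharP (AlgebraicClosure L) 3 := charP_of_injective_algebraMap φ.injective 3
  have hker : Subgroup.center SL(2, L) ≤ (tensor4 (L := L) (j + j)).ker := by
    intro z hz
    rw [MonoidHom.mem_ker]
    rcases CfsgLib.SL2.eq_one_or_eq_neg_one_of_mem_center _ hz with rfl | rfl
    · exact map_one _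
    · have en : (-1 : Matrix (Fin 2) (Fin 2) L) = (-1 : L) • 1 := by rw [neg_smul, one_smul]
      have e : (-1 : Matrix (Fin 2) (Fin 2) L) ⊗ₖ (-1 : Matrix (Fin 2) (Fin 2) L) = 1 := by
        rw [en, Matrix.smul_kronecker, Matrix.kronecker_smul, smul_smul, Matrix.one_kronecker_one]
        rw [neg_mul_neg, one_mul, one_smul]
      have em : ∀ i, (-1 : Matrix (Fin 2) (Fin 2) L).map (iterateFrobenius L 3 i) = -1 := fun i => by
        rw [← RingHom.mapMatrix_apply, map_neg, map_one]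
      simp only [tensor4, MonoidHom.coe_mk, OneHom.coe_mk, Matrix.SpecialLinearGroup.coe_neg,
        Matrix.SpecialLinearGroup.coe_one, em, kron4, e, Matrix.one_kronecker_one]
  let ρ : ProjectiveSpecialLinearGroup (Fin 2) L →* Matrix ((Fin 2 × Fin 2) × (Fin 2 × Fin 2)) ((Fin 2 × Fin 2) × (Fin 2 × Fin 2)) L :=
    QuotientGroup.lift _ (tensor4 (L := L) (j + j)) hker
  have hρ : ∀ g : SL(2, L), ρ (CfsgLib.SL2.proj g) = tensor4 (j + j) g := fun g => rfl
  have hproj : ∀ (g : SL(2, L)) (n : ℕ) (e : L), (g : Matrix (Fin 2) (Fin 2) L) ^ n = e • 1 →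
      orderOf (CfsgLib.SL2.proj g) ∣ n := by
    intro g n e h
    refine orderOf_dvd_of_pow_eq_one ?_
    rw [← map_pow, CfsgLib.SL2.proj_eq_one_iff, CfsgLib.SL2.mem_center_iff_not_nonScalar]
    intro hn
    exact hn e (by rw [Matrix.SpecialLinearGroup.coe_pow, h])
  have hspec := CfsgLib.SL2.spectrum_PSL (F := L) 3 hQ4
  rw [hg, Nat.card_eq_fintype_card, hL, hQ] at hspec
  refine exists_witness 3 ρ _ ?_ ?_ ?_ N
  · intro a
    have := hspec ▸ Set.mem_range_self (f := (orderOf : ProjectiveSpecialLinearGroup (Fin 2) L → ℕ)) a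
    rcases this with h | h | h
    · exact Or.inr (Or.inr (Or.inl (h.trans (dvd_mul_right _ _))))
    · exact Or.inr (Or.inl (by rw [torM, hc]; exact h))
    · exact Or.inl (by rw [torP, hc]; exact h)
  · intro a ha
    obtain ⟨g, rfl⟩ := CfsgLib.SL2.proj_surjective a
    obtain ⟨v, hv, hfix⟩ := exists_fixed_of_tr_ne _ _ ha
    rw [hρ] at hfix
    set G := (g : Matrix (Fin 2) (Fin 2) L) with hG
    obtain ⟨x, hx, hs⟩ := exists_root (-φ G.trace)
    rw [neg_inj] at hs
    have htQ : G.trace ^ 3 ^ (2 * (j + j)) = G.trace := by rw [← hL, FiniteField.pow_card]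
    have hcase : ∀ m, (m = q - 1 ∨ m = q + 1) → orderOf (CfsgLib.SL2.proj g) ∣ m →
        orderOf (CfsgLib.SL2.proj g) * 3 ∈ spec 3 q := by
      intro m hm h
      have h' := Nat.mul_dvd_mul_left 3 h
      rw [mul_comm] at h'
      rcases hm with rfl | rfl
      · exact Or.inr (Or.inr (Or.inl h'))
      · exact Or.inr (Or.inr (Or.inr (Or.inl h')))
    by_cases hne : x = x⁻¹
    · have hxx : x * x = 1 := by nth_rw 2 [hne]; exact mul_inv_cancel₀ hx
      have ht : G.trace ^ 3 ^ (j + j) = G.trace := by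
        refine φ.injective ?_
        rw [map_pow, hs, frob_add 3 (j + j), inv_pow]
        rcases mul_self_eq_one_iff.mp hxx with rfl | rfl
        · rw [one_pow]
        · rw [frob_neg 3 (j + j), one_pow]
      rcases sl2_cases 3 (j + j) hk g ht with ⟨e, -, h⟩ | ⟨m, hm, h⟩
      · exact Or.inr (Or.inr (Or.inr (Or.inr (Nat.mul_dvd_mul_right (hproj g 3 e h) 3))))
      · exact hcase m hm (hproj g m 1 (by rw [one_smul, ← Matrix.SpecialLinearGroup.coe_pow, h, Matrix.SpecialLinearGroup.coe_one]))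
    · have hQx : (x ^ 2) ^ (q ^ 2 - 1) = 1 ∨ (x ^ 2) ^ (q ^ 2 + 1) = 1 := by
        have hf := fixed_cases 3 (2 * (j + j)) hx (by rw [← hs, frob_neg 3 (2 * (j + j)), ← map_pow, htQ])
        rw [hQ] at hf
        rcases hf with h | h
        · exact Or.inl (by rw [pow_right_comm, h, one_pow])
        · exact Or.inr (by rw [pow_right_comm, h, one_pow])
      have hk4 : ∀ i, ((G.map (iterateFrobenius L 3 i)).map φ - (x ^ 3 ^ i) • 1) *
          ((G.map (iterateFrobenius L 3 i)).map φ - (x ^ 3 ^ i)⁻¹ • 1) = 0 := by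
        intro i
        refine kills ?_ (pow_ne_zero _ hx) ?_
        · rw [← RingHom.mapMatrix_apply, ← RingHom.map_det, ← RingHom.mapMatrix_apply, ← RingHom.map_det, hG,
            g.det_coe, map_one, map_one]
        · rw [← inv_pow, ← frob_add 3 i, ← hs, ← map_pow, ← iterateFrobenius_def]
          simp [Matrix.trace_fin_two]
      have hk1 : (G.map φ - x • 1) * (G.map φ - x⁻¹ • 1) = 0 := by
        refine kills ?_ hx ?_
        · rw [← RingHom.mapMatrix_apply, ← RingHom.map_det, hG, g.det_coe, map_one]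
        · rw [← hs]; simp [Matrix.trace_fin_two]
      have hv' : φ ∘ v ≠ 0 := fun h => hv (funext fun i => φ.injective (by simpa using congrFun h i))
      have hfix' : ((tensor4 (j + j) g).map φ) *ᵥ (φ ∘ v) = φ ∘ v := by
        funext i
        have := RingHom.map_mulVec φ (tensor4 (j + j) g) v i
        rw [hfix] at this
        exact this.symm
      change (kron4 G G _ _).map φ *ᵥ _ = _ at hfix'
      rw [kron4_map] at hfix'
      obtain ⟨a, b, c, d, ha', hb, hc', hd, hprod⟩ :=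
        weight_of_fixed hk1 hk1 (hk4 (j + j)) (hk4 (j + j + 1)) hv' hfix'
      rw [pow_succ 3 (j + j), pow_mul] at hd
      set u := x ^ 3 ^ (j + j) with hu
      have hu0 : u ≠ 0 := pow_ne_zero _ hx
      have six : u ^ 2 = 1 ∨ (u ^ 2) ^ 2 = 1 ∨ u ^ 2 = x ^ 2 ∨ u ^ 2 * x ^ 2 = 1 ∨ (u ^ 2) ^ 2 = x ^ 2 ∨
          (u ^ 2) ^ 2 * x ^ 2 = 1 := by
        rcases ha' with rfl | rfl <;> rcases hb with rfl | rfl <;> rcases hc' with rfl | rfl <;>
          rcases hd with rfl | rfl <;> field_simp at hprod <;>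
          first
          | exact Or.inl (by linear_combination hprod)
          | exact Or.inl (by linear_combination -hprod)
          | exact Or.inr (Or.inl (by linear_combination hprod))
          | exact Or.inr (Or.inl (by linear_combination -hprod))
          | exact Or.inr (Or.inr (Or.inl (by linear_combination hprod)))
          | exact Or.inr (Or.inr (Or.inl (by linear_combination -hprod)))
          | exact Or.inr (Or.inr (Or.inr (Or.inl (by linear_combination hprod))))
          | exact Or.inr (Or.inr (Or.inr (Or.inl (by linear_combination -hprod))))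
          | exact Or.inr (Or.inr (Or.inr (Or.inr (Or.inl (by linear_combination hprod)))))
          | exact Or.inr (Or.inr (Or.inr (Or.inr (Or.inl (by linear_combination -hprod)))))
          | exact Or.inr (Or.inr (Or.inr (Or.inr (Or.inr (by linear_combination hprod)))))
          | exact Or.inr (Or.inr (Or.inr (Or.inr (Or.inr (by linear_combination -hprod)))))
      have hu2 : u ^ 2 = (x ^ 2) ^ q := by rw [hu, pow_right_comm]
      rw [hu2] at six
      set μ := x ^ 2 with hμ
      have hμ0 : μ ≠ 0 := pow_ne_zero _ hx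
      have hsub : ∀ n, 1 ≤ n → μ ^ n = μ → μ ^ (n - 1) = 1 := fun n hn h =>
        mul_right_cancel₀ hμ0 (by rw [one_mul, ← pow_succ, Nat.sub_add_cancel hn, h])
      have hres := nine_ne q (orderOf μ) h5 h3 (by omega)
        (hQx.imp orderOf_dvd_of_pow_eq_one orderOf_dvd_of_pow_eq_one) ?_ hodd
      · obtain ⟨m, hm, hμm⟩ : ∃ m, (m = q - 1 ∨ m = q + 1) ∧ μ ^ m = 1 := by
          rcases hres with h | h
          · exact ⟨_, Or.inl rfl, orderOf_dvd_iff_pow_eq_one.mp h⟩
          · exact ⟨_, Or.inr rfl, orderOf_dvd_iff_pow_eq_one.mp h⟩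
        have he1 : x ^ m * x ^ m = 1 := by rw [← mul_pow, ← pow_two, ← hμ, hμm]
        have hd := quad_dvd hx hne (n := m) rfl (by rw [inv_pow, inv_eq_of_mul_eq_one_right he1])
        obtain ⟨ε, hε⟩ : ∃ ε, φ ε = x ^ m := by
          rcases mul_self_eq_one_iff.mp he1 with h | h <;> rw [h]
          · exact ⟨1, map_one φ⟩
          · exact ⟨-1, by rw [map_neg, map_one]⟩
        obtain ⟨R, hR⟩ := hd
        have h0 : aeval (G.map φ) (quad (-(x + x⁻¹))) = 0 := by
          rw [quad_eq hx, map_mul, map_sub, map_sub, aeval_X, aeval_C, aeval_C,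
            Algebra.algebraMap_eq_smul_one, Algebra.algebraMap_eq_smul_one, hk1]
        have h := congrArg (aeval (G.map φ)) hR
        rw [map_mul, h0, zero_mul, map_sub, map_pow, aeval_X, aeval_C, sub_eq_zero,
          Algebra.algebraMap_eq_smul_one] at h
        refine hcase m hm (hproj g m ε (Matrix.map_injective φ.injective (((map_pow φ.mapMatrix G m).trans h).trans ?_)))
        ext i j
        simp [Matrix.one_apply, apply_ite φ, hε]
      · rw [← pow_mul μ q 2, mul_comm q 2] at six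
        rcases six with h | h | h | h | h | h
        · exact Or.inl (orderOf_dvd_of_pow_eq_one h)
        · exact Or.inr (Or.inl (orderOf_dvd_of_pow_eq_one h))
        · exact Or.inr (Or.inr (Or.inl (orderOf_dvd_of_pow_eq_one (hsub q (by omega) h))))
        · exact Or.inr (Or.inr (Or.inr (Or.inl (orderOf_dvd_of_pow_eq_one (by rw [pow_succ, h])))))
        · exact Or.inr (Or.inr (Or.inr (Or.inr (Or.inl (orderOf_dvd_of_pow_eq_one (hsub (2 * q) (by omega) h))))))
        · exact Or.inr (Or.inr (Or.inr (Or.inr (Or.inr (orderOf_dvd_of_pow_eq_one (by rw [pow_succ, h]))))))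
  · rintro n (h | h | h | h | h)
    · refine Or.inl ?_
      have hm : torP q ∈ Set.range (orderOf : ProjectiveSpecialLinearGroup (Fin 2) L → ℕ) := by
        rw [hspec]; exact Or.inr (Or.inr (by rw [torP, hc]))
      obtain ⟨a, ha⟩ := hm
      exact ⟨a, ha ▸ h⟩
    · refine Or.inl ?_
      have hm : torM q ∈ Set.range (orderOf : ProjectiveSpecialLinearGroup (Fin 2) L → ℕ) := by
        rw [hspec]; exact Or.inr (Or.inl (by rw [torM, hc]))
      obtain ⟨a, ha⟩ := hm
      exact ⟨a, ha ▸ h⟩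
    · obtain ⟨a, ha, hd⟩ := mixed_three (j + j) hk hL ρ hρ hproj (Or.inl rfl)
      exact Or.inr ⟨a, ha, h.trans hd⟩
    · obtain ⟨a, ha, hd⟩ := mixed_three (j + j) hk hL ρ hρ hproj (Or.inr rfl)
      exact Or.inr ⟨a, ha, h.trans hd⟩
    · obtain ⟨a, ha, hd⟩ := unipotent_three (j + j) ρ hρ
      exact Or.inr ⟨a, ha, h.trans hd⟩

end CfsgLib.Spectrum.PSpFour
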